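import Mathlib

/-!
# Products of two regular unipotent matrices: general utilities

Sharp avoidance of proper subspaces, a selection lemma for linear functionals, and a few
dimension counts.
-/

set_option autoImplicit false

namespace Cfsg.Agent.Helper2.Lev

open Module Submodule LinearMap

section avoid

variable {K V ι : Type*} [Field K] [AddCommGroup V] [Module K V]

/-- Sharp avoidance: a vector space over a field with at least `N` elements is not the union of
`N` proper subspaces. -/
theorem exists_notMem_of_card_le [DecidableEq ι] {N : ℕ} (f : Fin N ↪ K) (s : Finset ι)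
    (p : ι → Submodule K V) (hs : s.card ≤ N) (hp : ∀ i ∈ s, p i ≠ ⊤) :
    ∃ x : V, ∀ i ∈ s, x ∉ p i := by
  induction s using Finset.induction_on with
  | empty => exact ⟨0, by simp⟩
  | insert j t hj ih =>
    rw [Finset.card_insert_of_notMem hj] at hs
    obtain ⟨x, hx⟩ := ih (by omega) (fun i hi => hp i (Finset.mem_insert_of_mem hi))
    by_cases hxj : x ∉ p j
    · refine ⟨x, fun i hi => ?_⟩
      rcases Finset.mem_insert.1 hi with rfl | hi
      · exact hxj
      · exact hx i hi
    rw [not_not] at hxj
    obtain ⟨y, hy⟩ : ∃ y, y ∉ p j := by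
      by_contra h
      push Not at h
      exact hp j (Finset.mem_insert_self _ _) (eq_top_iff.2 fun v _ => h v)
    by_contra hcon
    push Not at hcon
    have key : ∀ k : Fin N, ∃ i ∈ t, y + f k • x ∈ p i := by
      intro k
      obtain ⟨i, hi, hmem⟩ := hcon (y + f k • x)
      rcases Finset.mem_insert.1 hi with rfl | hi
      · exfalso
        apply hy
        have := (p i).sub_mem hmem ((p i).smul_mem (f k) hxj)
        simpa using this
      · exact ⟨i, hi, hmem⟩
    choose F hFt hF using key
    have hcard : t.card < (Finset.univ : Finset (Fin N)).card := by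
      rw [Finset.card_univ, Fintype.card_fin]; omega
    obtain ⟨k, -, k', -, hne, heq⟩ :=
      Finset.exists_ne_map_eq_of_card_lt_of_maps_to hcard (fun k _ => hFt k)
    have h1 := hF k
    have h2 := hF k'
    rw [heq] at h1
    have h3 : (f k - f k') • x ∈ p (F k') := by
      have := (p (F k')).sub_mem h1 h2
      rw [sub_smul]
      simpa using this
    have hne' : f k - f k' ≠ 0 := sub_ne_zero.2 (f.injective.ne hne)
    have h4 : x ∈ p (F k') := by
      have := (p (F k')).smul_mem (f k - f k')⁻¹ h3
      rwa [smul_smul, inv_mul_cancel₀ hne', one_smul] at this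
    exact hx _ (hFt k') h4

/-- Selection of a linear functional: given at most `N` vectors outside the line `K d`, there is
a functional vanishing at `d` and at none of them. -/
theorem exists_dual_ne_zero {N : ℕ} (f : Fin N ↪ K) (d : V) (s : Finset V) (hs : s.card ≤ N)
    (h : ∀ v ∈ s, v ∉ span K {d}) :
    ∃ φ : Dual K V, φ d = 0 ∧ ∀ v ∈ s, φ v ≠ 0 := by
  classical
  let A : Submodule K (Dual K V) := LinearMap.ker (Dual.eval K V d)
  let p : V → Submodule K A := fun v => LinearMap.ker ((Dual.eval K V v).comp A.subtype)
  have hp : ∀ v ∈ s, p v ≠ ⊤ := by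
    intro v hv htop
    obtain ⟨ψ, hψv, hψ⟩ := Submodule.exists_le_ker_of_notMem (h v hv)
    have hψd : ψ d = 0 := hψ (Submodule.mem_span_singleton_self d)
    have hmem : (⟨ψ, hψd⟩ : A) ∈ p v := by rw [htop]; trivial
    exact hψv hmem
  obtain ⟨x, hx⟩ := exists_notMem_of_card_le (V := A) f s p hs hp
  refine ⟨x.1, x.2, fun v hv hzero => hx v hv ?_⟩
  exact hzero

end avoid

section dims

variable {K V : Type*} [Field K] [AddCommGroup V] [Module K V]

/-- The preimage of a subspace `p` under `f` has dimension at most `dim ker f + dim p`. -/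
theorem finrank_comap_le [FiniteDimensional K V] (f : V →ₗ[K] V) (p : Submodule K V) :
    finrank K (p.comap f) ≤ finrank K (LinearMap.ker f) + finrank K p := by
  have hf : ∀ x ∈ p.comap f, f x ∈ p := fun x hx => hx
  have h1 := LinearMap.finrank_range_add_finrank_ker (f.restrict hf)
  have h2 : finrank K (LinearMap.ker (f.restrict hf)) = finrank K (LinearMap.ker f) := by
    rw [LinearMap.ker_restrict]
    refine LinearEquiv.finrank_eq (Submodule.comapSubtypeEquivOfLe ?_)
    intro x hx
    change f x ∈ p
    rw [LinearMap.mem_ker.1 hx]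
    exact p.zero_mem
  have h3 : finrank K (LinearMap.range (f.restrict hf)) ≤ finrank K p :=
    Submodule.finrank_le _
  omega

/-- If `y` is not in the range of `f`, the preimage of the line `K y` is the kernel. -/
theorem comap_span_singleton_eq_ker (f : V →ₗ[K] V) (y : V) (hy : y ∉ LinearMap.range f) :
    (span K {y}).comap f = LinearMap.ker f := by
  ext u
  rw [Submodule.mem_comap, Submodule.mem_span_singleton, LinearMap.mem_ker]
  constructor
  · rintro ⟨t, ht⟩
    by_cases h0 : t = 0
    · rw [← ht, h0, zero_smul]
    · exfalso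
      apply hy
      refine ⟨t⁻¹ • u, ?_⟩
      rw [map_smul, ← ht, smul_smul, inv_mul_cancel₀ h0, one_smul]
  · intro h
    exact ⟨0, by rw [zero_smul, h]⟩

/-- An endomorphism of determinant one of a one-dimensional space is the identity. -/
theorem eq_one_of_finrank_eq_one [FiniteDimensional K V] (h1 : finrank K V = 1) (g : V →ₗ[K] V)
    (hdet : LinearMap.det g = 1) : g = 1 := by
  obtain ⟨v, hv0, hv⟩ := finrank_eq_one_iff'.1 h1
  obtain ⟨κ, hκ⟩ := hv (g v)
  have hg : g = κ • (1 : Module.End K V) := by
    ext w
    obtain ⟨c, rfl⟩ := hv w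
    rw [map_smul, ← hκ, LinearMap.smul_apply, Module.End.one_apply, smul_comm]
  rw [hg, LinearMap.det_smul, h1, pow_one] at hdet
  rw [hg]
  have : κ = 1 := by simpa using hdet
  rw [this, one_smul]

end dims

section card

/-- A type with at least four elements receives an injection from `Fin 4`. -/
theorem exists_fin4_emb {K : Type*} (hK : 4 ≤ Cardinal.mk K) : Nonempty (Fin 4 ↪ K) := by
  have h : Cardinal.lift.{_, 0} (Cardinal.mk (Fin 4)) ≤ Cardinal.lift.{0, _} (Cardinal.mk K) := by
    simpa using hK
  exact Cardinal.lift_mk_le'.1 h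

/-- In a field with at least four elements where `2 ≠ 0`, there are five distinct elements. -/
theorem exists_fin5_emb {K : Type*} [Field K] (f : Fin 4 ↪ K) (h2 : (2 : K) ≠ 0) : Nonempty (Fin 5 ↪ K) := by
  classical
  -- an element outside `{0, 1, -1}`
  obtain ⟨x, hx0, hx1, hxm⟩ : ∃ x : K, x ≠ 0 ∧ x ≠ 1 ∧ x ≠ -1 := by
    by_contra hcon
    push Not at hcon
    have hsub : ∀ k : Fin 4, f k ∈ ({0, 1, -1} : Finset K) := by
      intro k
      by_cases h0 : f k = 0
      · simp [h0]
      by_cases h1 : f k = 1
      · simp [h1]
      · simp [hcon (f k) h0 h1]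
    have hle : (Finset.univ : Finset (Fin 4)).card ≤ ({0, 1, -1} : Finset K).card :=
      Finset.card_le_card_of_injOn f (fun k _ => hsub k) (fun a _ b _ hab => f.injective hab)
    have h3 : ({0, 1, -1} : Finset K).card ≤ 3 := Finset.card_le_three
    rw [Finset.card_univ, Fintype.card_fin] at hle
    omega
  have hxx : x ≠ -x := by
    intro h
    have : (2 : K) * x = 0 := by linear_combination h
    rcases mul_eq_zero.1 this with h | h
    · exact h2 h
    · exact hx0 h
  have h1m : (1 : K) ≠ -1 := by
    intro h
    apply h2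
    linear_combination h
  refine ⟨⟨![0, 1, -1, x, -x], ?_⟩⟩
  intro a b hab
  fin_cases a <;> fin_cases b <;> simp_all
  all_goals (exfalso; apply hxm; linear_combination (-1 : K) * hab)

end card

end Cfsg.Agent.Helper2.Lev
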