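import Mathlib
import Cfsg.Agent.Helper2.Lev.LevA

/-!
# Products of two regular unipotent matrices: the assembly step

For a functional `φ` and a vector `e` with `φ e = 1`, maps on `V` are assembled from maps on the
hyperplane `ker φ`.
-/

set_option autoImplicit false

namespace Cfsg.Agent.Helper2.Lev

open Module Submodule LinearMap

variable {K V : Type*} [Field K] [AddCommGroup V] [Module K V]

section prj

variable (φ : Dual K V) (e : V) (he : φ e = 1)

/-- The projection onto `ker φ` along `e`. -/
noncomputable def prj : V →ₗ[K] ↥(LinearMap.ker φ) :=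
  LinearMap.codRestrict (LinearMap.ker φ) (LinearMap.id - φ.smulRight e) (fun v => by
    rw [LinearMap.mem_ker, LinearMap.sub_apply, LinearMap.id_apply, LinearMap.smulRight_apply,
      map_sub, map_smul, he, smul_eq_mul, mul_one, sub_self])

theorem prj_coe (v : V) : (prj φ e he v : V) = v - φ v • e := rfl

theorem prj_of_mem (w : ↥(LinearMap.ker φ)) : prj φ e he (w : V) = w := by
  apply Subtype.ext
  rw [prj_coe, LinearMap.mem_ker.1 w.2, zero_smul, sub_zero]

theorem prj_self : prj φ e he e = 0 := by
  apply Subtype.ext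
  rw [prj_coe, he, one_smul, sub_self]; rfl

theorem prj_decomp (v : V) : v = φ v • e + (prj φ e he v : V) := by
  rw [prj_coe]; abel

theorem phi_prj (v : V) : φ (prj φ e he v : V) = 0 := LinearMap.mem_ker.1 (prj φ e he v).2

end prj

section extA

variable (φ : Dual K V) (e : V) (he : φ e = 1) (c : ↥(LinearMap.ker φ))
  (N' : Module.End K ↥(LinearMap.ker φ))

/-- Extension of an endomorphism `N'` of `ker φ` to `V`, sending `e` to `c`. -/
noncomputable def extA : V →ₗ[K] V :=
  φ.smulRight (c : V) + (LinearMap.ker φ).subtype ∘ₗ N' ∘ₗ prj φ e he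

theorem extA_apply (v : V) : extA φ e he c N' v = φ v • (c : V) + (N' (prj φ e he v) : V) := rfl

theorem extA_mem (v : V) : extA φ e he c N' v ∈ LinearMap.ker φ := by
  rw [extA_apply]
  exact (LinearMap.ker φ).add_mem ((LinearMap.ker φ).smul_mem _ c.2) (N' _).2

theorem extA_of_mem (w : ↥(LinearMap.ker φ)) : extA φ e he c N' (w : V) = (N' w : V) := by
  rw [extA_apply, LinearMap.mem_ker.1 w.2, zero_smul, zero_add, prj_of_mem]

theorem extA_pow_succ (k : ℕ) (v : V) :
    ((extA φ e he c N') ^ (k + 1)) v = ((N' ^ k) ⟨extA φ e he c N' v, extA_mem φ e he c N' v⟩ : V) := by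
  induction k with
  | zero => simp
  | succ k ih =>
    rw [pow_succ', Module.End.mul_apply, ih, pow_succ', Module.End.mul_apply]
    exact extA_of_mem φ e he c N' _

theorem extA_isNilpotent (hN : IsNilpotent N') : IsNilpotent (extA φ e he c N') := by
  obtain ⟨k, hk⟩ := hN
  refine ⟨k + 1, ?_⟩
  ext v
  rw [extA_pow_succ, hk]
  rfl

theorem range_extA (φ' : Dual K ↥(LinearMap.ker φ)) (hr : LinearMap.range N' = LinearMap.ker φ')
    (hc : φ' c ≠ 0) : LinearMap.range (extA φ e he c N') = LinearMap.ker φ := by
  apply le_antisymm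
  · rintro _ ⟨v, rfl⟩
    exact extA_mem φ e he c N' v
  · intro h hh
    set w : ↥(LinearMap.ker φ) := ⟨h, hh⟩ with hw
    set t : K := φ' w / φ' c with ht
    have hmem : w - t • c ∈ LinearMap.ker φ' := by
      rw [LinearMap.mem_ker, map_sub, map_smul, smul_eq_mul, ht, div_mul_cancel₀ _ hc, sub_self]
    rw [← hr] at hmem
    obtain ⟨w', hw'⟩ := hmem
    refine ⟨t • e + (w' : V), ?_⟩
    rw [extA_apply, map_add, map_add, map_smul, map_smul, he, prj_self, smul_zero, zero_add,
      LinearMap.mem_ker.1 w'.2, add_zero, smul_eq_mul, mul_one, prj_of_mem, hw']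
    change t • (c : V) + ((w : V) - t • (c : V)) = h
    rw [hw]; abel

theorem ker_extA (φ' : Dual K ↥(LinearMap.ker φ)) (hr : LinearMap.range N' ≤ LinearMap.ker φ')
    (hc : φ' c ≠ 0) :
    LinearMap.ker (extA φ e he c N') = (LinearMap.ker N').map (LinearMap.ker φ).subtype := by
  ext v
  rw [LinearMap.mem_ker, Submodule.mem_map]
  constructor
  · intro hv
    have h0 : φ v • c + N' (prj φ e he v) = 0 := by
      apply Subtype.ext
      rw [Submodule.coe_add, Submodule.coe_smul, ZeroMemClass.coe_zero, ← extA_apply]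
      exact hv
    have h1 : φ v = 0 := by
      have := congrArg φ' h0
      rw [map_add, map_smul, LinearMap.mem_ker.1 (hr ⟨_, rfl⟩), add_zero, map_zero,
        smul_eq_mul] at this
      exact (mul_eq_zero.1 this).resolve_right hc
    refine ⟨⟨v, LinearMap.mem_ker.2 h1⟩, ?_, rfl⟩
    rw [LinearMap.mem_ker]
    have h2 := extA_of_mem φ e he c N' ⟨v, LinearMap.mem_ker.2 h1⟩
    apply Subtype.ext
    rw [← h2]
    exact hv
  · rintro ⟨w, hw, rfl⟩
    rw [Submodule.subtype_apply, extA_of_mem, LinearMap.mem_ker.1 hw]; rfl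

end extA

section extB

variable (φ : Dual K V) (e : V) (he : φ e = 1) (r : Dual K ↥(LinearMap.ker φ))
  (M' : Module.End K ↥(LinearMap.ker φ))

/-- Extension of an endomorphism `M'` of `ker φ` to `V`, killing `e`, with an additional
component `r` along `e`. -/
noncomputable def extB : V →ₗ[K] V :=
  (r ∘ₗ prj φ e he).smulRight e + (LinearMap.ker φ).subtype ∘ₗ M' ∘ₗ prj φ e he

theorem extB_apply (v : V) :
    extB φ e he r M' v = r (prj φ e he v) • e + (M' (prj φ e he v) : V) := rfl

theorem prj_extB (v : V) : prj φ e he (extB φ e he r M' v) = M' (prj φ e he v) := by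
  rw [extB_apply, map_add, map_smul, prj_self, smul_zero, zero_add, prj_of_mem]

theorem phi_extB (v : V) : φ (extB φ e he r M' v) = r (prj φ e he v) := by
  rw [extB_apply, map_add, map_smul, he, LinearMap.mem_ker.1 (M' _).2, add_zero, smul_eq_mul,
    mul_one]

theorem prj_extB_pow (k : ℕ) (v : V) :
    prj φ e he (((extB φ e he r M') ^ k) v) = (M' ^ k) (prj φ e he v) := by
  induction k with
  | zero => simp
  | succ k ih =>
    rw [pow_succ', Module.End.mul_apply, prj_extB, ih, pow_succ', Module.End.mul_apply]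

theorem extB_isNilpotent (hM : IsNilpotent M') : IsNilpotent (extB φ e he r M') := by
  obtain ⟨k, hk⟩ := hM
  refine ⟨k + 1, ?_⟩
  ext v
  rw [pow_succ', Module.End.mul_apply, extB_apply, prj_extB_pow, hk]
  simp

theorem ker_extB (e' : ↥(LinearMap.ker φ)) (hk : LinearMap.ker M' = span K {e'})
    (hr : r e' ≠ 0) : LinearMap.ker (extB φ e he r M') = span K {e} := by
  ext v
  rw [LinearMap.mem_ker, Submodule.mem_span_singleton]
  constructor
  · intro hv
    have h1 : M' (prj φ e he v) = 0 := by
      rw [← prj_extB φ e he r M', hv, map_zero]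
    have h2 : r (prj φ e he v) = 0 := by
      rw [← phi_extB φ e he r M', hv, map_zero]
    have h3 : prj φ e he v ∈ span K {e'} := by rw [← hk]; exact LinearMap.mem_ker.2 h1
    obtain ⟨t, ht⟩ := Submodule.mem_span_singleton.1 h3
    have h4 : t = 0 := by
      rw [← ht, map_smul, smul_eq_mul] at h2
      exact (mul_eq_zero.1 h2).resolve_right hr
    refine ⟨φ v, ?_⟩
    conv_rhs => rw [prj_decomp φ e he v]
    rw [← ht, h4, zero_smul]
    simp
  · rintro ⟨t, rfl⟩
    rw [extB_apply, map_smul, prj_self, smul_zero, map_zero, map_zero, zero_smul]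
    simp

end extB

section schur

variable (φ : Dual K V) (e : V) (g : V →ₗ[K] V)

/-- The map `v ↦ g v - φ (g v) • g e`. -/
noncomputable def schurAux : V →ₗ[K] V := g - (φ ∘ₗ g).smulRight (g e)

theorem schurAux_apply (v : V) : schurAux φ e g v = g v - φ (g v) • g e := rfl

theorem schurAux_mem (hge : φ (g e) = 1) (v : V) : schurAux φ e g v ∈ LinearMap.ker φ := by
  rw [LinearMap.mem_ker, schurAux_apply, map_sub, map_smul, hge, smul_eq_mul, mul_one, sub_self]

/-- The Schur complement of `g` with respect to `e` and `φ`, an endomorphism of `ker φ`. -/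
noncomputable def schur (hge : φ (g e) = 1) : Module.End K ↥(LinearMap.ker φ) :=
  (LinearMap.codRestrict (LinearMap.ker φ) (schurAux φ e g) (schurAux_mem φ e g hge)) ∘ₗ
    (LinearMap.ker φ).subtype

theorem schur_coe (hge : φ (g e) = 1) (w : ↥(LinearMap.ker φ)) :
    (schur φ e g hge w : V) = g w - φ (g w) • g e := rfl

/-- The vector `g e - e` of `ker φ`. -/
def cvec (he : φ e = 1) (hge : φ (g e) = 1) : ↥(LinearMap.ker φ) :=
  ⟨g e - e, by rw [LinearMap.mem_ker, map_sub, he, hge, sub_self]⟩

/-- The functional `w ↦ φ (g w)` on `ker φ`. -/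
noncomputable def rfun : Dual K ↥(LinearMap.ker φ) := (φ ∘ₗ g) ∘ₗ (LinearMap.ker φ).subtype

theorem rfun_apply (w : ↥(LinearMap.ker φ)) : rfun φ g w = φ (g w) := rfl

/-- The assembly identity: if the Schur complement is `a' ∘ b'` then `g` is the product of the
two extended maps. -/
theorem assembly (he : φ e = 1) (hge : φ (g e) = 1) (a' b' : Module.End K ↥(LinearMap.ker φ))
    (hS : schur φ e g hge = a' ∘ₗ b') :
    g = (1 + extA φ e he (cvec φ e g he hge) (a' - 1)) ∘ₗ (1 + extB φ e he (rfun φ g) (b' - 1)) := by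
  ext v
  rw [LinearMap.comp_apply]
  set v' := (1 + extB φ e he (rfun φ g) (b' - 1)) v with hv'
  have h1 : φ v' = φ v + rfun φ g (prj φ e he v) := by
    rw [hv', LinearMap.add_apply, Module.End.one_apply, map_add, phi_extB]
  have h2 : prj φ e he v' = b' (prj φ e he v) := by
    rw [hv', LinearMap.add_apply, Module.End.one_apply, map_add, prj_extB, LinearMap.sub_apply,
      Module.End.one_apply]
    abel
  have h3 : (schur φ e g hge (prj φ e he v) : V) = (a' (b' (prj φ e he v)) : V) := by
    rw [hS]; rfl
  rw [schur_coe] at h3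
  rw [LinearMap.add_apply, Module.End.one_apply, extA_apply, h1, h2, LinearMap.sub_apply,
    Module.End.one_apply, Submodule.coe_sub, ← h3, hv', LinearMap.add_apply, Module.End.one_apply,
    extB_apply, LinearMap.sub_apply, Module.End.one_apply, Submodule.coe_sub, rfun_apply]
  rw [show ((cvec φ e g he hge : ↥(LinearMap.ker φ)) : V) = g e - e from rfl]
  have hv := prj_decomp φ e he v
  have key : g v = φ v • g e + g (prj φ e he v : V) := by
    conv_lhs => rw [hv, map_add, map_smul]
  linear_combination (norm := module) key - hv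

end schur

section det

variable [FiniteDimensional K V] (φ : Dual K V) (e : V) (g : V →ₗ[K] V)

/-- The Schur complement has the same determinant as `g`. -/
theorem det_schur (he : φ e = 1) (hge : φ (g e) = 1) :
    LinearMap.det (schur φ e g hge) = LinearMap.det g := by
  set ρ : Dual K V := (φ ∘ₗ g) ∘ₗ (LinearMap.ker φ).subtype ∘ₗ prj φ e he with hρ
  have hρe : ρ e = 0 := by
    show φ (g (prj φ e he e : V)) = 0
    rw [prj_self]
    simp
  have hρv : ∀ v, ρ v = φ (g v) - φ v := by
    intro v
    show φ (g (prj φ e he v : V)) = _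
    rw [prj_coe, map_sub, map_sub, map_smul, map_smul, hge, smul_eq_mul, mul_one]
  set k : V →ₗ[K] V := g ∘ₗ LinearMap.transvection (-ρ) e with hk
  have hkv : ∀ v, k v = g v - ρ v • g e := by
    intro v
    rw [hk, LinearMap.comp_apply, LinearMap.transvection.apply, map_add, map_smul,
      LinearMap.neg_apply, neg_smul, sub_eq_add_neg]
  have hkdet : LinearMap.det k = LinearMap.det g := by
    rw [hk, LinearMap.det_comp, LinearMap.transvection.det, LinearMap.neg_apply, hρe, neg_zero,
      add_zero, mul_one]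
  have hkW : LinearMap.ker φ ≤ (LinearMap.ker φ).comap k := by
    intro w hw
    rw [Submodule.mem_comap, LinearMap.mem_ker, hkv, hρv, LinearMap.mem_ker.1 hw, sub_zero,
      map_sub, map_smul, hge, smul_eq_mul, mul_one, sub_self]
  have h1 := LinearMap.det_eq_det_mul_det (LinearMap.ker φ) k hkW
  have h2 : k.restrict hkW = schur φ e g hge := by
    ext w
    rw [LinearMap.coe_restrict_apply, hkv, hρv, LinearMap.mem_ker.1 w.2, sub_zero, schur_coe]
  have h3 : (LinearMap.ker φ).mapQ (LinearMap.ker φ) k hkW = LinearMap.id := by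
    apply Submodule.linearMap_qext
    ext v
    rw [LinearMap.comp_apply, LinearMap.comp_apply, Submodule.mkQ_apply, Submodule.mapQ_apply,
      LinearMap.id_apply, Submodule.Quotient.eq, LinearMap.mem_ker, map_sub, hkv, map_sub,
      map_smul, hge, hρv]
    simp
  rw [h2, h3, LinearMap.det_id, mul_one] at h1
  rw [← h1, hkdet]

end det

end Cfsg.Agent.Helper2.Lev
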