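import Mathlib
import Cfsg.Agent.Helper2.Lev.LevA

/-!
# Products of two regular unipotent matrices: eigenspaces, ranges and selection of `e`
-/

set_option autoImplicit false

namespace Cfsg.Agent.Helper2.Lev

open Module Submodule LinearMap

section wrappers

variable {K V : Type*} [Field K] [AddCommGroup V] [Module K V]

theorem finrank_span_singleton_le_one (v : V) : finrank K (span K {v}) ≤ 1 := by
  by_cases hv : v = 0
  · rw [hv, Submodule.span_zero_singleton, finrank_bot]; omega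
  · rw [finrank_span_singleton hv]

/-- Avoidance of four proper subspaces. -/
theorem avoid4 (f4 : Fin 4 ↪ K) (P1 P2 P3 P4 : Submodule K V) (h1 : P1 ≠ ⊤) (h2 : P2 ≠ ⊤)
    (h3 : P3 ≠ ⊤) (h4 : P4 ≠ ⊤) : ∃ x : V, x ∉ P1 ∧ x ∉ P2 ∧ x ∉ P3 ∧ x ∉ P4 := by
  classical
  obtain ⟨x, hx⟩ := exists_notMem_of_card_le f4 ({P1, P2, P3, P4} : Finset (Submodule K V)) id
    Finset.card_le_four (by
      intro i hi
      simp only [Finset.mem_insert, Finset.mem_singleton] at hi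
      rcases hi with rfl | rfl | rfl | rfl <;> assumption)
  exact ⟨x, hx P1 (by simp), hx P2 (by simp), hx P3 (by simp), hx P4 (by simp)⟩

/-- Selection of a functional with `φ d = 0`, `φ e = 1` and three more nonvanishing conditions. -/
theorem fsel4 (f4 : Fin 4 ↪ K) (d e x2 x3 x4 : V) (h1 : e ∉ span K {d}) (h2 : x2 ∉ span K {d})
    (h3 : x3 ∉ span K {d}) (h4 : x4 ∉ span K {d}) :
    ∃ φ : Dual K V, φ d = 0 ∧ φ e = 1 ∧ φ x2 ≠ 0 ∧ φ x3 ≠ 0 ∧ φ x4 ≠ 0 := by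
  classical
  obtain ⟨φ, hd, hφ⟩ := exists_dual_ne_zero f4 d ({e, x2, x3, x4} : Finset V)
    Finset.card_le_four (by
      intro i hi
      simp only [Finset.mem_insert, Finset.mem_singleton] at hi
      rcases hi with rfl | rfl | rfl | rfl <;> assumption)
  have he : φ e ≠ 0 := hφ e (by simp)
  refine ⟨(φ e)⁻¹ • φ, ?_, ?_, ?_, ?_, ?_⟩
  · rw [LinearMap.smul_apply, hd, smul_zero]
  · rw [LinearMap.smul_apply, smul_eq_mul, inv_mul_cancel₀ he]
  · rw [LinearMap.smul_apply, smul_eq_mul]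
    exact mul_ne_zero (inv_ne_zero he) (hφ x2 (by simp))
  · rw [LinearMap.smul_apply, smul_eq_mul]
    exact mul_ne_zero (inv_ne_zero he) (hφ x3 (by simp))
  · rw [LinearMap.smul_apply, smul_eq_mul]
    exact mul_ne_zero (inv_ne_zero he) (hφ x4 (by simp))

/-- Selection of a functional with `φ d = 0`, `φ e = 1` and four more nonvanishing conditions. -/
theorem fsel5 (f5 : Fin 5 ↪ K) (d e x2 x3 x4 x5 : V) (h1 : e ∉ span K {d})
    (h2 : x2 ∉ span K {d}) (h3 : x3 ∉ span K {d}) (h4 : x4 ∉ span K {d})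
    (h5 : x5 ∉ span K {d}) :
    ∃ φ : Dual K V, φ d = 0 ∧ φ e = 1 ∧ φ x2 ≠ 0 ∧ φ x3 ≠ 0 ∧ φ x4 ≠ 0 ∧ φ x5 ≠ 0 := by
  classical
  obtain ⟨φ, hd, hφ⟩ := exists_dual_ne_zero f5 d ({e, x2, x3, x4, x5} : Finset V)
    Finset.card_le_five (by
      intro i hi
      simp only [Finset.mem_insert, Finset.mem_singleton] at hi
      rcases hi with rfl | rfl | rfl | rfl | rfl <;> assumption)
  have he : φ e ≠ 0 := hφ e (by simp)
  refine ⟨(φ e)⁻¹ • φ, ?_, ?_, ?_, ?_, ?_, ?_⟩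
  · rw [LinearMap.smul_apply, hd, smul_zero]
  · rw [LinearMap.smul_apply, smul_eq_mul, inv_mul_cancel₀ he]
  · rw [LinearMap.smul_apply, smul_eq_mul]
    exact mul_ne_zero (inv_ne_zero he) (hφ x2 (by simp))
  · rw [LinearMap.smul_apply, smul_eq_mul]
    exact mul_ne_zero (inv_ne_zero he) (hφ x3 (by simp))
  · rw [LinearMap.smul_apply, smul_eq_mul]
    exact mul_ne_zero (inv_ne_zero he) (hφ x4 (by simp))
  · rw [LinearMap.smul_apply, smul_eq_mul]
    exact mul_ne_zero (inv_ne_zero he) (hφ x5 (by simp))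

/-- A subspace of dimension at least two contains a vector outside a given line. -/
theorem exists_mem_notMem_span [FiniteDimensional K V] (P : Submodule K V) (d : V)
    (hP : 2 ≤ finrank K P) : ∃ x ∈ P, x ∉ span K {d} := by
  by_contra hcon
  push Not at hcon
  have hle : P ≤ span K {d} := fun x hx => hcon x hx
  have := Submodule.finrank_mono hle
  have := finrank_span_singleton_le_one (K := K) d
  omega

end wrappers

section eigen

variable {K V : Type*} [Field K] [AddCommGroup V] [Module K V]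

/-- The endomorphism `g - μ`. -/
def nm (g : Module.End K V) (μ : K) : Module.End K V := g - μ • 1

theorem nm_apply (g : Module.End K V) (μ : K) (v : V) : nm g μ v = g v - μ • v := rfl

theorem nm_one (g : Module.End K V) : nm g 1 = g - 1 := by rw [nm, one_smul]

/-- The eigenspace `ker (g - μ)`. -/
def Qs (g : Module.End K V) (μ : K) : Submodule K V := LinearMap.ker (nm g μ)

/-- The range of `g - μ`. -/
def Ms (g : Module.End K V) (μ : K) : Submodule K V := LinearMap.range (nm g μ)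

/-- The rank of `g - μ`. -/
noncomputable def rk (g : Module.End K V) (μ : K) : ℕ := finrank K (LinearMap.range (nm g μ))

/-- The preimage of the line `K y` under `g - μ`. -/
def Us (g : Module.End K V) (y : V) (μ : K) : Submodule K V := (span K {y}).comap (nm g μ)

variable (g : Module.End K V)

theorem mem_Qs {μ : K} {v : V} : v ∈ Qs g μ ↔ g v = μ • v := by
  rw [Qs, LinearMap.mem_ker, nm_apply, sub_eq_zero]

theorem mem_Us {y : V} {μ : K} {v : V} : v ∈ Us g y μ ↔ ∃ t : K, t • y = g v - μ • v := by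
  rw [Us, Submodule.mem_comap, Submodule.mem_span_singleton, nm_apply]

theorem Qs_le_Us (y : V) (μ : K) : Qs g μ ≤ Us g y μ := by
  intro v hv
  rw [mem_Us]
  exact ⟨0, by rw [zero_smul, (mem_Qs g).1 hv, sub_self]⟩

theorem Qs_le_Ms {μ ν : K} (h : μ ≠ ν) : Qs g μ ≤ Ms g ν := by
  intro v hv
  refine ⟨(μ - ν)⁻¹ • v, ?_⟩
  have hne : μ - ν ≠ 0 := sub_ne_zero.2 h
  have hk : (μ - ν)⁻¹ * μ - ν * (μ - ν)⁻¹ = 1 := by field_simp
  rw [nm_apply, map_smul, (mem_Qs g).1 hv, smul_smul, smul_smul, ← sub_smul, hk, one_smul]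

theorem Qs_disjoint {μ ν : K} (h : μ ≠ ν) : Disjoint (Qs g μ) (Qs g ν) := by
  rw [Submodule.disjoint_def]
  intro v h1 h2
  have h3 : (μ - ν) • v = 0 := by
    rw [sub_smul, ← (mem_Qs g).1 h1, ← (mem_Qs g).1 h2, sub_self]
  exact (smul_eq_zero.1 h3).resolve_left (sub_ne_zero.2 h)

theorem Us_eq_Qs {y : V} {μ : K} (hy : y ∉ Ms g μ) : Us g y μ = Qs g μ :=
  comap_span_singleton_eq_ker _ _ hy

theorem ge_mem_Ms_iff {μ : K} (hμ : μ ≠ 0) (e : V) : g e ∈ Ms g μ ↔ e ∈ Ms g μ := by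
  have h1 : g e - μ • e ∈ Ms g μ := ⟨e, rfl⟩
  constructor
  · intro h
    have h2 : μ • e ∈ Ms g μ := by
      have := (Ms g μ).sub_mem h h1
      rwa [sub_sub_cancel] at this
    have := (Ms g μ).smul_mem μ⁻¹ h2
    rwa [smul_smul, inv_mul_cancel₀ hμ, one_smul] at this
  · intro h
    have := (Ms g μ).add_mem h1 ((Ms g μ).smul_mem μ h)
    rwa [sub_add_cancel] at this

variable [FiniteDimensional K V]

theorem rk_add_finrank_Qs (μ : K) : rk g μ + finrank K (Qs g μ) = finrank K V :=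
  LinearMap.finrank_range_add_finrank_ker (nm g μ)

theorem finrank_Us_le (y : V) (μ : K) : finrank K (Us g y μ) ≤ finrank K (Qs g μ) + 1 := by
  have h1 := finrank_comap_le (nm g μ) (span K {y})
  have h2 := finrank_span_singleton_le_one (K := K) y
  exact h1.trans (by rw [Qs]; omega)

theorem finrank_Qs_add_le {μ μ' ν : K} (h : μ ≠ μ') (h1 : μ ≠ ν) (h2 : μ' ≠ ν) :
    finrank K (Qs g μ) + finrank K (Qs g μ') ≤ rk g ν := by
  have h3 := Submodule.finrank_sup_add_finrank_inf_eq (Qs g μ) (Qs g μ')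
  rw [(Qs_disjoint g h).eq_bot, finrank_bot, add_zero] at h3
  rw [← h3]
  exact Submodule.finrank_mono (sup_le (Qs_le_Ms g h1) (Qs_le_Ms g h2))

omit [FiniteDimensional K V] in
theorem Qs_ne_top {μ : K} (h : g ≠ μ • 1) : Qs g μ ≠ ⊤ := by
  intro htop
  apply h
  ext v
  have : v ∈ Qs g μ := by rw [htop]; trivial
  rw [(mem_Qs g).1 this]; rfl

theorem one_le_rk {μ : K} (h : g ≠ μ • 1) : 1 ≤ rk g μ := by
  by_contra hlt
  have h0 : rk g μ = 0 := by omega
  have h1 := rk_add_finrank_Qs g μ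
  rw [h0, zero_add] at h1
  exact Qs_ne_top g h (Submodule.eq_top_of_finrank_eq h1)

omit [FiniteDimensional K V] in
theorem Ms_ne_top {μ : K} (h : rk g μ < finrank K V) : Ms g μ ≠ ⊤ := by
  intro htop
  rw [rk, ← Ms, htop, finrank_top] at h
  exact lt_irrefl _ h

theorem Ms_ne_top_of_Qs_ne_bot {μ : K} (h : Qs g μ ≠ ⊥) : Ms g μ ≠ ⊤ := by
  apply Ms_ne_top
  have h1 := rk_add_finrank_Qs g μ
  have h2 : 0 < finrank K (Qs g μ) := by
    rw [Module.finrank_pos_iff_exists_ne_zero]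
    obtain ⟨x, hx, hx0⟩ := Submodule.exists_mem_ne_zero_of_ne_bot h
    exact ⟨⟨x, hx⟩, fun h => hx0 (congrArg Subtype.val h)⟩
  omega

end eigen

section esel

variable {K V : Type*} [Field K] [AddCommGroup V] [Module K V] [FiniteDimensional K V]
  (g : Module.End K V)

omit [FiniteDimensional K V] in
/-- Selection of `e` outside the range of `g - l`, where `l` is an eigenvalue. -/
theorem esel1 (f4 : Fin 4 ↪ K) (hns : ∀ μ : K, g ≠ μ • 1) (h2 : 2 ≤ rk g 1) (c0 : V)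
    (r0 : Dual K V) (hr0 : r0 ≠ 0) (l : K) (hl : Ms g l ≠ ⊤) :
    ∃ e : V, r0 e ≠ 0 ∧ (g - 1) e ∉ span K {c0} ∧ (∀ μ : K, g e ≠ μ • e) ∧ e ∉ Ms g l := by
  have hP1 : LinearMap.ker r0 ≠ ⊤ := by
    intro h; exact hr0 (LinearMap.ker_eq_top.1 h)
  have hP2 : (span K {c0}).comap (g - 1) ≠ ⊤ := by
    intro h
    have hle : LinearMap.range (g - 1) ≤ span K {c0} := by
      rintro _ ⟨v, rfl⟩
      have : v ∈ (span K {c0}).comap (g - 1) := by rw [h]; trivial
      exact this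
    have h3 := Submodule.finrank_mono hle
    have h4 := finrank_span_singleton_le_one (K := K) c0
    rw [rk, nm_one] at h2
    omega
  obtain ⟨x, hx1, hx2, hx3, hx4⟩ := avoid4 f4 _ _ _ _ hP1 hP2 hl (Qs_ne_top g (hns l))
  refine ⟨x, fun h => hx1 (LinearMap.mem_ker.2 h), fun h => hx2 h, ?_, hx3⟩
  intro μ hμ
  by_cases hμl : μ = l
  · exact hx4 (by rw [← hμl]; exact (mem_Qs g).2 hμ)
  · exact hx3 (Qs_le_Ms g hμl ((mem_Qs g).2 hμ))

omit [FiniteDimensional K V] in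
/-- Selection of `e` outside the ranges of `g - l` and `g - l'`. -/
theorem esel2 (f4 : Fin 4 ↪ K) (h2 : 2 ≤ rk g 1) (c0 : V)
    (r0 : Dual K V) (hr0 : r0 ≠ 0) (l l' : K) (hne : l ≠ l') (hl : Ms g l ≠ ⊤)
    (hl' : Ms g l' ≠ ⊤) :
    ∃ e : V, r0 e ≠ 0 ∧ (g - 1) e ∉ span K {c0} ∧ (∀ μ : K, g e ≠ μ • e) ∧ e ∉ Ms g l ∧
      e ∉ Ms g l' := by
  have hP1 : LinearMap.ker r0 ≠ ⊤ := by
    intro h; exact hr0 (LinearMap.ker_eq_top.1 h)
  have hP2 : (span K {c0}).comap (g - 1) ≠ ⊤ := by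
    intro h
    have hle : LinearMap.range (g - 1) ≤ span K {c0} := by
      rintro _ ⟨v, rfl⟩
      have : v ∈ (span K {c0}).comap (g - 1) := by rw [h]; trivial
      exact this
    have h3 := Submodule.finrank_mono hle
    have h4 := finrank_span_singleton_le_one (K := K) c0
    rw [rk, nm_one] at h2
    omega
  obtain ⟨x, hx1, hx2, hx3, hx4⟩ := avoid4 f4 _ _ _ _ hP1 hP2 hl hl'
  refine ⟨x, fun h => hx1 (LinearMap.mem_ker.2 h), fun h => hx2 h, ?_, hx3, hx4⟩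
  intro μ hμ
  by_cases hμl : μ = l
  · have : μ ≠ l' := by rw [hμl]; exact hne
    exact hx4 (Qs_le_Ms g this ((mem_Qs g).2 hμ))
  · exact hx3 (Qs_le_Ms g hμl ((mem_Qs g).2 hμ))

/-- Selection of `e` with the basic conditions only. -/
theorem esel0 (f4 : Fin 4 ↪ K) (hns : ∀ μ : K, g ≠ μ • 1) (h2 : 2 ≤ rk g 1) (c0 : V)
    (r0 : Dual K V) (hr0 : r0 ≠ 0) :
    ∃ e : V, r0 e ≠ 0 ∧ (g - 1) e ∉ span K {c0} ∧ (∀ μ : K, g e ≠ μ • e) := by
  by_cases h : ∃ l : K, Qs g l ≠ ⊥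
  · obtain ⟨l, hl⟩ := h
    obtain ⟨e, h1, h2, h3, -⟩ := esel1 g f4 hns h2 c0 r0 hr0 l (Ms_ne_top_of_Qs_ne_bot g hl)
    exact ⟨e, h1, h2, h3⟩
  · push Not at h
    have hP1 : LinearMap.ker r0 ≠ ⊤ := by
      intro h; exact hr0 (LinearMap.ker_eq_top.1 h)
    have hP2 : (span K {c0}).comap (g - 1) ≠ ⊤ := by
      intro h
      have hle : LinearMap.range (g - 1) ≤ span K {c0} := by
        rintro _ ⟨v, rfl⟩
        have : v ∈ (span K {c0}).comap (g - 1) := by rw [h]; trivial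
        exact this
      have h3 := Submodule.finrank_mono hle
      have h4 := finrank_span_singleton_le_one (K := K) c0
      rw [rk, nm_one] at h2
      omega
    obtain ⟨x, hx1, hx2, -, -⟩ := avoid4 f4 _ _ _ _ hP1 hP2 hP1 hP1
    refine ⟨x, fun h => hx1 (LinearMap.mem_ker.2 h), fun h => hx2 h, ?_⟩
    intro μ hμ
    have hx0 : x ≠ 0 := by
      rintro rfl
      exact hx1 (Submodule.zero_mem _)
    have : x ∈ Qs g μ := (mem_Qs g).2 hμ
    rw [h μ] at this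
    exact hx0 ((Submodule.mem_bot K).1 this)

/-- Selection of `e` for spaces of dimension at least three. -/
theorem esel (f4 : Fin 4 ↪ K) (hm : 3 ≤ finrank K V) (hns : ∀ μ : K, g ≠ μ • 1)
    (h2 : 2 ≤ rk g 1) (c0 : V) (r0 : Dual K V) (hr0 : r0 ≠ 0) :
    ∃ e : V, r0 e ≠ 0 ∧ (g - 1) e ∉ span K {c0} ∧ (∀ μ : K, g e ≠ μ • e) ∧
      (rk g 1 = 2 → e ∉ Ms g 1) ∧ (∀ μ : K, μ ≠ 1 → rk g μ = 1 → e ∉ Ms g μ) := by
  have huniq : ∀ l μ : K, rk g l = 1 → rk g μ = 1 → μ = l := by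
    intro l μ hl hμ
    by_contra hne
    have h1 := Submodule.finrank_mono (Qs_le_Ms g (μ := μ) (ν := l) hne)
    have h3 := rk_add_finrank_Qs g μ
    change finrank K (Qs g μ) ≤ rk g l at h1
    omega
  by_cases hA : rk g 1 = 2
  · by_cases hB : ∃ l : K, l ≠ 1 ∧ rk g l = 1
    · obtain ⟨l, hl1, hl⟩ := hB
      obtain ⟨e, h1, h3, h4, h5, h6⟩ := esel2 g f4 h2 c0 r0 hr0 1 l (Ne.symm hl1)
        (Ms_ne_top g (by omega)) (Ms_ne_top g (by omega))
      refine ⟨e, h1, h3, h4, fun _ => h5, ?_⟩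
      intro μ _ hμ
      rw [huniq l μ hl hμ]
      exact h6
    · obtain ⟨e, h1, h3, h4, h5⟩ := esel1 g f4 hns h2 c0 r0 hr0 1 (Ms_ne_top g (by omega))
      refine ⟨e, h1, h3, h4, fun _ => h5, ?_⟩
      intro μ hμ1 hμ
      exact absurd ⟨μ, hμ1, hμ⟩ hB
  · by_cases hB : ∃ l : K, l ≠ 1 ∧ rk g l = 1
    · obtain ⟨l, hl1, hl⟩ := hB
      obtain ⟨e, h1, h3, h4, h5⟩ := esel1 g f4 hns h2 c0 r0 hr0 l (Ms_ne_top g (by omega))
      refine ⟨e, h1, h3, h4, fun h => absurd h hA, ?_⟩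
      intro μ _ hμ
      rw [huniq l μ hl hμ]
      exact h5
    · obtain ⟨e, h1, h3, h4⟩ := esel0 g f4 hns h2 c0 r0 hr0
      refine ⟨e, h1, h3, h4, fun h => absurd h hA, ?_⟩
      intro μ hμ1 hμ
      exact absurd ⟨μ, hμ1, hμ⟩ hB

end esel

end Cfsg.Agent.Helper2.Lev
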