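import Mathlib
import Cfsg.Agent.Helper2.Lev.LevB
import Cfsg.Agent.Helper2.Lev.LevC

/-!
# Products of two regular unipotent matrices: verification of the Schur complement
-/

set_option autoImplicit false

namespace Cfsg.Agent.Helper2.Lev

open Module Submodule LinearMap

section verify

variable {K V : Type*} [Field K] [AddCommGroup V] [Module K V]
  (g : Module.End K V) (φ : Dual K V) (e : V) (he : φ e = 1) (hge : φ (g e) = 1)

/-- If the Schur complement is the scalar `μ` then `ker φ` lies in `U_μ`. -/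
theorem ker_le_Us_of_schur_eq (μ : K) (hS : schur φ e g hge = μ • 1) :
    LinearMap.ker φ ≤ Us g (g e) μ := by
  intro w hw
  rw [mem_Us]
  refine ⟨φ (g w), ?_⟩
  have h1 : (schur φ e g hge ⟨w, hw⟩ : V) = μ • w := by rw [hS]; rfl
  rw [schur_coe] at h1
  rw [← h1]
  abel

variable [FiniteDimensional K V]

omit [FiniteDimensional K V] in
/-- The fixed space of the Schur complement. -/
theorem finrank_ker_schur_sub_one :
    finrank K (LinearMap.ker (schur φ e g hge - 1)) =
      finrank K ↥(LinearMap.ker φ ⊓ Us g (g e) 1) := by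
  rw [← Submodule.finrank_map_subtype_eq (LinearMap.ker φ) (LinearMap.ker (schur φ e g hge - 1))]
  have : (LinearMap.ker (schur φ e g hge - 1)).map (LinearMap.ker φ).subtype =
      LinearMap.ker φ ⊓ Us g (g e) 1 := by
    ext v
    rw [Submodule.mem_map, Submodule.mem_inf, mem_Us]
    constructor
    · rintro ⟨w, hw, rfl⟩
      refine ⟨w.2, φ (g w), ?_⟩
      rw [LinearMap.mem_ker, LinearMap.sub_apply, Module.End.one_apply, sub_eq_zero] at hw
      have h1 : (schur φ e g hge w : V) = w := by rw [hw]
      rw [schur_coe] at h1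
      rw [Submodule.subtype_apply, one_smul]
      nth_rewrite 3 [← h1]
      abel
    · rintro ⟨hv, t, ht⟩
      refine ⟨⟨v, hv⟩, ?_, rfl⟩
      rw [LinearMap.mem_ker, LinearMap.sub_apply, Module.End.one_apply, sub_eq_zero]
      apply Subtype.ext
      rw [schur_coe]
      have h1 : t = φ (g v) := by
        have := congrArg φ ht
        rw [map_smul, hge, smul_eq_mul, mul_one, map_sub, map_smul, LinearMap.mem_ker.1 hv,
          smul_zero, sub_zero] at this
        exact this
      rw [← h1, ht, one_smul]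
      abel
  rw [this]

/-- The dimension bound for `ker φ ⊓ U_1`. -/
theorem finrank_inf_Us_one (h2 : 2 ≤ rk g 1) (hE1 : rk g 1 = 2 → e ∉ Ms g 1)
    (hU : rk g 1 ≤ 3 → (∃ u ∈ Us g (g e) 1, φ u ≠ 0) ∨
      (Us g (g e) 1 ≤ span K {g e - e} ∧ 4 ≤ finrank K V)) :
    finrank K ↥(LinearMap.ker φ ⊓ Us g (g e) 1) + 3 ≤ finrank K V := by
  have hle : finrank K ↥(LinearMap.ker φ ⊓ Us g (g e) 1) ≤ finrank K (Us g (g e) 1) :=
    Submodule.finrank_mono inf_le_right
  have h1 := rk_add_finrank_Qs g 1
  have h3 := finrank_Us_le g (g e) 1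
  by_cases h4 : 4 ≤ rk g 1
  · omega
  · have hU' := hU (by omega)
    have h5 : finrank K (Us g (g e) 1) + 2 ≤ finrank K V := by
      by_cases h6 : rk g 1 = 2
      · have : g e ∉ Ms g 1 := fun h => hE1 h6 ((ge_mem_Ms_iff g one_ne_zero e).1 h)
        rw [Us_eq_Qs g this]; omega
      · omega
    rcases hU' with ⟨u, hu, hφu⟩ | ⟨hsub, hm⟩
    · have hlt : LinearMap.ker φ ⊓ Us g (g e) 1 < Us g (g e) 1 := by
        refine lt_of_le_of_ne inf_le_right ?_
        intro heq
        have : u ∈ LinearMap.ker φ ⊓ Us g (g e) 1 := by rw [heq]; exact hu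
        exact hφu (LinearMap.mem_ker.1 this.1)
      have := Submodule.finrank_lt_finrank_of_lt hlt
      omega
    · have := Submodule.finrank_mono hsub
      have := finrank_span_singleton_le_one (K := K) (g e - e)
      omega

omit [FiniteDimensional K V] in
/-- If `ker φ ≤ U_μ` and some vector of `U_μ` is outside `ker φ`, then `g - μ` has rank at most
one and `e` is in its range. -/
theorem rk_le_one_of_ker_le_Us (μ : K) (hns : g ≠ μ • 1) (hμ0 : μ ≠ 0) (u : V)
    (hu : u ∈ Us g (g e) μ) (hφu : φ u ≠ 0) (hW : LinearMap.ker φ ≤ Us g (g e) μ) :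
    rk g μ ≤ 1 ∧ e ∈ Ms g μ := by
  have htop : ∀ v, v ∈ Us g (g e) μ := by
    intro v
    have h1 : v - (φ v / φ u) • u ∈ LinearMap.ker φ := by
      rw [LinearMap.mem_ker, map_sub, map_smul, smul_eq_mul, div_mul_cancel₀ _ hφu, sub_self]
    have := (Us g (g e) μ).add_mem (hW h1) ((Us g (g e) μ).smul_mem (φ v / φ u) hu)
    rwa [sub_add_cancel] at this
  have hle : Ms g μ ≤ span K {g e} := by
    rintro _ ⟨v, rfl⟩
    exact htop v
  refine ⟨?_, ?_⟩
  · have h1 := Submodule.finrank_mono hle
    have h2 := finrank_span_singleton_le_one (K := K) (g e)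
    exact le_trans h1 h2
  · have hex : ∃ v, nm g μ v ≠ 0 := by
      by_contra hcon
      push Not at hcon
      apply hns
      ext v
      have := hcon v
      rw [nm_apply, sub_eq_zero] at this
      rw [this]; rfl
    obtain ⟨v, hv⟩ := hex
    obtain ⟨t, ht⟩ := (mem_Us g).1 (htop v)
    have ht0 : t ≠ 0 := by
      rintro rfl
      rw [zero_smul] at ht
      exact hv ht.symm
    have hgeM : g e ∈ Ms g μ := by
      have h1 : t • g e ∈ Ms g μ := ⟨v, by rw [nm_apply, ht]⟩
      have := (Ms g μ).smul_mem t⁻¹ h1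
      rwa [smul_smul, inv_mul_cancel₀ ht0, one_smul] at this
    exact (ge_mem_Ms_iff g hμ0 e).1 hgeM

include he in
/-- The Schur complement lies in the good class. -/
theorem step_finish (hm : 3 ≤ finrank K V) (hdet : LinearMap.det g = 1)
    (hns : ∀ μ : K, g ≠ μ • 1)
    (hE : ∀ μ : K, μ ≠ 1 → rk g μ = 1 → e ∉ Ms g μ)
    (hA : finrank K ↥(LinearMap.ker φ ⊓ Us g (g e) 1) + 3 ≤ finrank K V)
    (hB : ∀ μ : K, μ ≠ 1 → rk g μ ≤ 2 → (finrank K V = 3 → μ = -1) →
      (∃ u ∈ Us g (g e) μ, φ u ≠ 0) ∨ Us g (g e) μ ≤ span K {g e - e}) :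
    (∀ μ : K, schur φ e g hge ≠ μ • 1) ∧
      2 ≤ finrank K (LinearMap.range (schur φ e g hge - 1)) := by
  have hφ0 : φ ≠ 0 := by
    rintro rfl
    simp at he
  have hW := Module.Dual.finrank_ker_add_one_of_ne_zero hφ0
  constructor
  · intro μ hS
    have hle := ker_le_Us_of_schur_eq g φ e hge μ hS
    have hle' := Submodule.finrank_mono hle
    by_cases h1 : μ = 1
    · rw [h1] at hle
      rw [inf_eq_left.2 hle] at hA
      omega
    have h3 := finrank_Us_le g (g e) μ
    have h4 := rk_add_finrank_Qs g μ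
    by_cases h5 : 3 ≤ rk g μ
    · omega
    have hμ0 : μ ≠ 0 := by
      rintro rfl
      have hinj : LinearMap.ker g = ⊥ := by
        by_contra hker
        have := (LinearMap.det_eq_zero_iff_ker_ne_bot (f := g)).2 hker
        rw [hdet] at this
        exact one_ne_zero this
      have h9 : finrank K (Qs g 0) = 0 := by
        have : Qs g 0 = ⊥ := by
          rw [Qs, nm, zero_smul, sub_zero, hinj]
        rw [this, finrank_bot]
      omega
    by_cases h6 : finrank K V = 3 ∧ μ ≠ -1
    · have h7 := det_schur φ e g he hge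
      rw [hS, hdet, LinearMap.det_smul, map_one, mul_one] at h7
      have h8 : finrank K ↥(LinearMap.ker φ) = 2 := by omega
      rw [h8] at h7
      have : (μ - 1) * (μ + 1) = 0 := by linear_combination h7
      rcases mul_eq_zero.1 this with h | h
      · exact h1 (by linear_combination h)
      · exact h6.2 (by linear_combination h)
    · have h7 : finrank K V = 3 → μ = -1 := by
        intro h
        by_contra h'
        exact h6 ⟨h, h'⟩
      rcases hB μ h1 (by omega) h7 with ⟨u, hu, hφu⟩ | hsub
      · obtain ⟨h8, h9⟩ := rk_le_one_of_ker_le_Us g φ e μ (hns μ) hμ0 u hu hφu hle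
        have h10 := one_le_rk g (hns μ)
        exact hE μ h1 (by omega) h9
      · have := Submodule.finrank_mono hsub
        have := finrank_span_singleton_le_one (K := K) (g e - e)
        omega
  · have h1 := LinearMap.finrank_range_add_finrank_ker (schur φ e g hge - 1)
    rw [finrank_ker_schur_sub_one] at h1
    omega

end verify

end Cfsg.Agent.Helper2.Lev
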