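import Mathlib
import Cfsg.Agent.Helper2.Lev.LevD

/-!
# Products of two regular unipotent matrices: the step lemma
-/

set_option autoImplicit false

namespace Cfsg.Agent.Helper2.Lev

open Module Submodule LinearMap

section detfix

variable {K W : Type*} [Field K] [AddCommGroup W] [Module K W] [FiniteDimensional K W]

/-- An endomorphism of determinant one of a plane fixing a nonzero vector `d` moves every vector
by a multiple of `d`. -/
theorem det_fix (hW : finrank K W = 2) (f : Module.End K W) (hdet : LinearMap.det f = 1) (d : W)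
    (hd0 : d ≠ 0) (hfd : f d = d) (w : W) : f w - w ∈ span K {d} := by
  obtain ⟨ψ, hψ⟩ : ∃ ψ : Dual K W, ψ d ≠ 0 := by
    by_contra hcon
    push Not at hcon
    exact hd0 ((Module.forall_dual_apply_eq_zero_iff K d).1 hcon)
  set φ2 : Dual K W := (ψ d)⁻¹ • ψ with hφ2
  have he2 : φ2 d = 1 := by
    rw [hφ2, LinearMap.smul_apply, smul_eq_mul, inv_mul_cancel₀ hψ]
  have hge2 : φ2 (f d) = 1 := by rw [hfd, he2]
  have hφ0 : φ2 ≠ 0 := by
    intro h
    rw [h] at he2
    simp at he2
  have hk := Module.Dual.finrank_ker_add_one_of_ne_zero hφ0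
  have hk1 : finrank K ↥(LinearMap.ker φ2) = 1 := by omega
  have hS := eq_one_of_finrank_eq_one hk1 (schur φ2 d f hge2)
    (by rw [det_schur φ2 d f he2 hge2, hdet])
  have key : ∀ w2 : ↥(LinearMap.ker φ2), f w2 - w2 ∈ span K {d} := by
    intro w2
    have h1 : (schur φ2 d f hge2 w2 : W) = w2 := by rw [hS]; rfl
    rw [schur_coe, hfd] at h1
    rw [Submodule.mem_span_singleton]
    refine ⟨φ2 (f w2), ?_⟩
    nth_rewrite 3 [← h1]
    abel
  have hdec := prj_decomp φ2 d he2 w
  have h2 : f w - w = f (prj φ2 d he2 w : W) - (prj φ2 d he2 w : W) := by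
    conv_lhs => rw [hdec, map_add, map_smul, hfd]
    abel
  rw [h2]
  exact key _

end detfix

section q3

variable {K V : Type*} [Field K] [AddCommGroup V] [Module K V] [FiniteDimensional K V]
  (g : Module.End K V) (φ : Dual K V) (e : V)

omit [FiniteDimensional K V] in
/-- Basic facts on `d = g e - e` for a non-eigenvector `e`. -/
theorem basic_d (hne : ∀ μ : K, g e ≠ μ • e) (c0 : V) (hc0 : c0 ≠ 0)
    (hP2 : (g - 1) e ∉ span K {c0}) :
    g e - e ≠ 0 ∧ e ∉ span K {g e - e} ∧ c0 ∉ span K {g e - e} := by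
  have hd0 : g e - e ≠ 0 := by
    intro h
    apply hne 1
    rw [one_smul]
    exact sub_eq_zero.1 h
  have he0 : e ≠ 0 := by
    rintro rfl
    apply hne 0
    rw [map_zero, smul_zero]
  refine ⟨hd0, ?_, ?_⟩
  · intro h
    obtain ⟨t, ht⟩ := Submodule.mem_span_singleton.1 h
    have ht0 : t ≠ 0 := by
      rintro rfl
      rw [zero_smul] at ht
      exact he0 ht.symm
    apply hne (1 + t⁻¹)
    have h1 : t⁻¹ • e = g e - e := by
      conv_lhs => rw [← ht]
      rw [smul_smul, inv_mul_cancel₀ ht0, one_smul]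
    rw [add_smul, one_smul, h1]
    abel
  · intro h
    obtain ⟨t, ht⟩ := Submodule.mem_span_singleton.1 h
    have ht0 : t ≠ 0 := by
      rintro rfl
      rw [zero_smul] at ht
      exact hc0 ht.symm
    apply hP2
    rw [Submodule.mem_span_singleton]
    refine ⟨t⁻¹, ?_⟩
    rw [← ht, smul_smul, inv_mul_cancel₀ ht0, one_smul]
    rfl

omit [FiniteDimensional K V] in
/-- From a vector `z` with `φ ((g - 1) z) ≠ 0` to a vector of `ker φ` on which `φ ∘ g` does not
vanish. -/
theorem exists_w (he : φ e = 1) (hge : φ (g e) = 1) (h : ∃ z, φ ((g - 1) z) ≠ 0) :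
    ∃ w, φ w = 0 ∧ φ (g w) ≠ 0 := by
  obtain ⟨z, hz⟩ := h
  refine ⟨z - φ z • e, ?_, ?_⟩
  · rw [map_sub, map_smul, he, smul_eq_mul, mul_one, sub_self]
  · rw [map_sub, map_smul, map_sub, map_smul, hge, smul_eq_mul, mul_one]
    rw [LinearMap.sub_apply, Module.End.one_apply, map_sub] at hz
    exact hz

/-- In dimension three and determinant one, `U_1` is not contained in the line `K d`. -/
theorem q3 (hV : finrank K V = 3) (hdet : LinearMap.det g = 1) (he : φ e = 1)
    (hge : φ (g e) = 1) (hne : ∀ μ : K, g e ≠ μ • e) (h2 : 2 ≤ rk g 1)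
    (hE1 : rk g 1 = 2 → e ∉ Ms g 1) (hU : Us g (g e) 1 ≤ span K {g e - e}) : False := by
  have hd0 : g e - e ≠ 0 := by
    intro h
    apply hne 1
    rw [one_smul]
    exact sub_eq_zero.1 h
  have hφd : φ (g e - e) = 0 := by rw [map_sub, he, hge, sub_self]
  have hge0 : g e ≠ 0 := by
    intro h
    apply hne 0
    rw [h, zero_smul]
  -- `d ∈ U_1`
  have hex : ∃ u, u ≠ 0 ∧ u ∈ Us g (g e) 1 := by
    by_cases hinj : LinearMap.ker (nm g 1) = ⊥
    · have hsurj : Function.Surjective (nm g 1) :=
        LinearMap.injective_iff_surjective.1 (LinearMap.ker_eq_bot.1 hinj)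
      obtain ⟨u, hu⟩ := hsurj (g e)
      refine ⟨u, ?_, ?_⟩
      · rintro rfl
        rw [map_zero] at hu
        exact hge0 hu.symm
      · rw [mem_Us]
        exact ⟨1, by rw [one_smul, ← hu, nm_apply]⟩
    · obtain ⟨q, hq, hq0⟩ := Submodule.exists_mem_ne_zero_of_ne_bot hinj
      exact ⟨q, hq0, Qs_le_Us g (g e) 1 hq⟩
  obtain ⟨u, hu0, hu⟩ := hex
  have hdU : g e - e ∈ Us g (g e) 1 := by
    obtain ⟨t, ht⟩ := Submodule.mem_span_singleton.1 (hU hu)
    have ht0 : t ≠ 0 := by
      rintro rfl
      rw [zero_smul] at ht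
      exact hu0 ht.symm
    have := (Us g (g e) 1).smul_mem t⁻¹ hu
    rwa [← ht, smul_smul, inv_mul_cancel₀ ht0, one_smul] at this
  obtain ⟨s, hs⟩ := (mem_Us g).1 hdU
  rw [one_smul] at hs
  -- the Schur complement fixes `d`
  set d' : ↥(LinearMap.ker φ) := ⟨g e - e, LinearMap.mem_ker.2 hφd⟩ with hd'
  have hφgd : φ (g (g e - e)) = s := by
    have h1 : g (g e - e) = s • g e + (g e - e) := by rw [hs]; abel
    rw [h1, map_add, map_smul, hge, hφd, add_zero, smul_eq_mul, mul_one]
  have hSd : schur φ e g hge d' = d' := by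
    apply Subtype.ext
    rw [schur_coe]
    change g (g e - e) - φ (g (g e - e)) • g e = g e - e
    rw [hφgd, hs]
    abel
  have hφ0 : φ ≠ 0 := by
    rintro rfl
    simp at he
  have hW := Module.Dual.finrank_ker_add_one_of_ne_zero hφ0
  have hW2 : finrank K ↥(LinearMap.ker φ) = 2 := by omega
  have hd'0 : d' ≠ 0 := by
    intro h
    exact hd0 (congrArg Subtype.val h)
  have hfix := det_fix hW2 (schur φ e g hge) (by rw [det_schur φ e g he hge, hdet]) d' hd'0 hSd
  -- the range of `g - 1` lies in the plane spanned by `e` and `d`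
  have hle : Ms g 1 ≤ span K {e} ⊔ span K {g e - e} := by
    rintro _ ⟨v, rfl⟩
    rw [nm_apply, one_smul]
    have hdec := prj_decomp φ e he v
    obtain ⟨t, ht⟩ := Submodule.mem_span_singleton.1 (hfix (prj φ e he v))
    have ht' : t • (g e - e) = (g (prj φ e he v : V) - φ (g (prj φ e he v : V)) • g e) -
        (prj φ e he v : V) := by
      have := congrArg Subtype.val ht
      rw [Submodule.coe_smul, Submodule.coe_sub, schur_coe] at this
      exact this
    have h3 : g v - v = (φ v + t + φ (g (prj φ e he v : V))) • (g e - e) +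
        (φ (g (prj φ e he v : V))) • e := by
      conv_lhs => rw [hdec, map_add, map_smul]
      linear_combination (norm := module) (-1 : K) • ht'
    rw [h3]
    exact Submodule.add_mem _
      (Submodule.mem_sup_right (Submodule.smul_mem _ _ (Submodule.mem_span_singleton_self _)))
      (Submodule.mem_sup_left (Submodule.smul_mem _ _ (Submodule.mem_span_singleton_self _)))
  have h4 := Submodule.finrank_mono hle
  have h5 := Submodule.finrank_add_le_finrank_add_finrank (span K {e}) (span K {g e - e})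
  have h6 := finrank_span_singleton_le_one (K := K) e
  have h7 := finrank_span_singleton_le_one (K := K) (g e - e)
  have h8 : rk g 1 = 2 := by
    change finrank K (Ms g 1) ≤ _ at h4
    change 2 ≤ finrank K (Ms g 1) at h2
    change finrank K (Ms g 1) = 2
    omega
  have h9 : Ms g 1 = span K {e} ⊔ span K {g e - e} := by
    apply Submodule.eq_of_le_of_finrank_le hle
    change _ ≤ rk g 1
    omega
  apply hE1 h8
  rw [h9]
  exact Submodule.mem_sup_left (Submodule.mem_span_singleton_self _)

end q3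

end Cfsg.Agent.Helper2.Lev
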