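import Mathlib
import Cfsg.Agent.Helper2.Lev.LevE

/-!
# Products of two regular unipotent matrices: witnesses and the step lemma
-/

set_option autoImplicit false

namespace Cfsg.Agent.Helper2.Lev

open Module Submodule LinearMap

section wit

variable {K V : Type*} [Field K] [AddCommGroup V] [Module K V] [FiniteDimensional K V]
  (g : Module.End K V)

omit [FiniteDimensional K V] in
/-- An eigenvector for an eigenvalue other than one witnesses `φ ∘ (g - 1) ≠ 0`. -/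
theorem exists_z_of_Qs (φ : Dual K V) {l : K} (hl : l ≠ 1) {q : V} (hq : q ∈ Qs g l)
    (hφq : φ q ≠ 0) : ∃ z, φ ((g - 1) z) ≠ 0 := by
  refine ⟨q, ?_⟩
  rw [LinearMap.sub_apply, Module.End.one_apply, (mem_Qs g).1 hq, map_sub, map_smul, smul_eq_mul]
  have : l * φ q - φ q = (l - 1) * φ q := by ring
  rw [this]
  exact mul_ne_zero (sub_ne_zero.2 hl) hφq

/-- Witnesses in dimension at least four. -/
theorem wit4 (hm : 4 ≤ finrank K V) (h2 : 2 ≤ rk g 1) (e : V)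
    (hne : ∀ μ : K, g e ≠ μ • e) (hE1 : rk g 1 = 2 → e ∉ Ms g 1) :
    ∃ x1 x2 : V, x1 ∉ span K {g e - e} ∧ x2 ∉ span K {g e - e} ∧
      ∀ φ : Dual K V, φ e = 1 → φ (g e) = 1 → φ x1 ≠ 0 → φ x2 ≠ 0 →
        (∃ z, φ ((g - 1) z) ≠ 0) ∧
        (finrank K ↥(LinearMap.ker φ ⊓ Us g (g e) 1) + 3 ≤ finrank K V) ∧
        (∀ μ : K, μ ≠ 1 → rk g μ ≤ 2 →
          (∃ u ∈ Us g (g e) μ, φ u ≠ 0) ∨ Us g (g e) μ ≤ span K {g e - e}) := by
  have hed : e ∉ span K {g e - e} := by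
    intro h
    obtain ⟨t, ht⟩ := Submodule.mem_span_singleton.1 h
    have he0 : e ≠ 0 := by
      rintro rfl
      apply hne 0
      rw [map_zero, smul_zero]
    have ht0 : t ≠ 0 := by
      rintro rfl
      rw [zero_smul] at ht
      exact he0 ht.symm
    apply hne (1 + t⁻¹)
    have h1 : t⁻¹ • e = g e - e := by
      conv_lhs => rw [← ht]
      rw [smul_smul, inv_mul_cancel₀ ht0, one_smul]
    rw [add_smul, one_smul, h1]
    abel
  -- the witness for `U_1`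
  obtain ⟨u1, hu1d, hu1⟩ : ∃ u1 : V, u1 ∉ span K {g e - e} ∧
      ((∃ u ∈ Us g (g e) 1, u ∉ span K {g e - e}) → u1 ∈ Us g (g e) 1) := by
    by_cases h : ∃ u ∈ Us g (g e) 1, u ∉ span K {g e - e}
    · obtain ⟨u, hu, hud⟩ := h
      exact ⟨u, hud, fun _ => hu⟩
    · exact ⟨e, hed, fun h' => absurd h' h⟩
  have hAu : ∀ φ : Dual K V, φ u1 ≠ 0 →
      finrank K ↥(LinearMap.ker φ ⊓ Us g (g e) 1) + 3 ≤ finrank K V := by
    intro φ hφu
    apply finrank_inf_Us_one g φ e h2 hE1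
    intro _
    by_cases h : ∃ u ∈ Us g (g e) 1, u ∉ span K {g e - e}
    · exact Or.inl ⟨u1, hu1 h, hφu⟩
    · push Not at h
      exact Or.inr ⟨fun u hu => h u hu, hm⟩
  have hQ : ∀ l : K, rk g l ≤ 2 → ∃ q ∈ Qs g l, q ∉ span K {g e - e} := by
    intro l hl
    apply exists_mem_notMem_span
    have := rk_add_finrank_Qs g l
    omega
  by_cases hI : ∃ l : K, l ≠ 1 ∧ rk g l ≤ 2
  · obtain ⟨l, hl1, hl⟩ := hI
    obtain ⟨q, hq, hqd⟩ := hQ l hl
    by_cases hII : ∃ l' : K, l' ≠ 1 ∧ l' ≠ l ∧ rk g l' ≤ 2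
    · obtain ⟨l', hl'1, hl'l, hl'⟩ := hII
      obtain ⟨q', hq', hq'd⟩ := hQ l' hl'
      have hr1 : 4 ≤ rk g 1 := by
        have h3 := finrank_Qs_add_le g (Ne.symm hl'l) hl1 hl'1
        have h4 := rk_add_finrank_Qs g l
        have h5 := rk_add_finrank_Qs g l'
        omega
      refine ⟨q, q', hqd, hq'd, ?_⟩
      intro φ _ _ hφq hφq'
      refine ⟨exists_z_of_Qs g φ hl1 hq hφq, ?_, ?_⟩
      · apply finrank_inf_Us_one g φ e h2 hE1
        intro h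
        omega
      · intro μ _ hμ
        have hμl : μ = l ∨ μ = l' := by
          by_contra hcon
          push Not at hcon
          have h3 := finrank_Qs_add_le g (Ne.symm hl'l) (Ne.symm hcon.1) (Ne.symm hcon.2)
          have h4 := rk_add_finrank_Qs g l
          have h5 := rk_add_finrank_Qs g l'
          omega
        rcases hμl with rfl | rfl
        · exact Or.inl ⟨q, Qs_le_Us g _ _ hq, hφq⟩
        · exact Or.inl ⟨q', Qs_le_Us g _ _ hq', hφq'⟩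
    · refine ⟨q, u1, hqd, hu1d, ?_⟩
      intro φ _ _ hφq hφu
      refine ⟨exists_z_of_Qs g φ hl1 hq hφq, hAu φ hφu, ?_⟩
      intro μ hμ1 hμ
      have hμl : μ = l := by
        by_contra hcon
        exact hII ⟨μ, hμ1, hcon, hμ⟩
      rw [hμl]
      exact Or.inl ⟨q, Qs_le_Us g _ _ hq, hφq⟩
  · obtain ⟨x, hx, hxd⟩ := exists_mem_notMem_span (LinearMap.range (g - 1)) (g e - e)
      (by rw [← nm_one]; exact h2)
    obtain ⟨z, rfl⟩ := hx
    refine ⟨(g - 1) z, u1, hxd, hu1d, ?_⟩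
    intro φ _ _ hφz hφu
    refine ⟨⟨z, hφz⟩, hAu φ hφu, ?_⟩
    intro μ hμ1 hμ
    exact absurd ⟨μ, hμ1, hμ⟩ hI

/-- Witnesses in dimension three. -/
theorem wit3 (hm : finrank K V = 3) (hdet : LinearMap.det g = 1) (h2 : 2 ≤ rk g 1) (e : V)
    (hne : ∀ μ : K, g e ≠ μ • e) (hE1 : rk g 1 = 2 → e ∉ Ms g 1) :
    ∃ x1 x2 x3 : V, x1 ∉ span K {g e - e} ∧ x2 ∉ span K {g e - e} ∧ x3 ∉ span K {g e - e} ∧
      ((1 : K) = -1 → x3 = e) ∧
      ∀ φ : Dual K V, φ e = 1 → φ (g e) = 1 → φ x1 ≠ 0 → φ x2 ≠ 0 → φ x3 ≠ 0 →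
        (∃ z, φ ((g - 1) z) ≠ 0) ∧
        (finrank K ↥(LinearMap.ker φ ⊓ Us g (g e) 1) + 3 ≤ finrank K V) ∧
        (∀ μ : K, μ ≠ 1 → rk g μ ≤ 2 → μ = -1 →
          (∃ u ∈ Us g (g e) μ, φ u ≠ 0) ∨ Us g (g e) μ ≤ span K {g e - e}) := by
  have hed : e ∉ span K {g e - e} := by
    intro h
    obtain ⟨t, ht⟩ := Submodule.mem_span_singleton.1 h
    have he0 : e ≠ 0 := by
      rintro rfl
      apply hne 0
      rw [map_zero, smul_zero]
    have ht0 : t ≠ 0 := by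
      rintro rfl
      rw [zero_smul] at ht
      exact he0 ht.symm
    apply hne (1 + t⁻¹)
    have h1 : t⁻¹ • e = g e - e := by
      conv_lhs => rw [← ht]
      rw [smul_smul, inv_mul_cancel₀ ht0, one_smul]
    rw [add_smul, one_smul, h1]
    abel
  obtain ⟨u1, hu1d, hu1⟩ : ∃ u1 : V, u1 ∉ span K {g e - e} ∧
      ((∃ u ∈ Us g (g e) 1, u ∉ span K {g e - e}) → u1 ∈ Us g (g e) 1) := by
    by_cases h : ∃ u ∈ Us g (g e) 1, u ∉ span K {g e - e}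
    · obtain ⟨u, hu, hud⟩ := h
      exact ⟨u, hud, fun _ => hu⟩
    · exact ⟨e, hed, fun h' => absurd h' h⟩
  obtain ⟨u3, hu3d, hu3e, hu3⟩ : ∃ u3 : V, u3 ∉ span K {g e - e} ∧ ((1 : K) = -1 → u3 = e) ∧
      ((1 : K) ≠ -1 → (∃ u ∈ Us g (g e) (-1), u ∉ span K {g e - e}) →
        u3 ∈ Us g (g e) (-1)) := by
    by_cases h : (1 : K) ≠ -1 ∧ ∃ u ∈ Us g (g e) (-1), u ∉ span K {g e - e}
    · obtain ⟨h1, u, hu, hud⟩ := h
      exact ⟨u, hud, fun h' => absurd h' h1, fun _ _ => hu⟩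
    · exact ⟨e, hed, fun _ => rfl, fun h1 h' => absurd ⟨h1, h'⟩ h⟩
  obtain ⟨x, hx, hxd⟩ := exists_mem_notMem_span (LinearMap.range (g - 1)) (g e - e)
    (by rw [← nm_one]; exact h2)
  obtain ⟨z, rfl⟩ := hx
  refine ⟨(g - 1) z, u1, u3, hxd, hu1d, hu3d, hu3e, ?_⟩
  intro φ he hge hφz hφu1 hφu3
  refine ⟨⟨z, hφz⟩, ?_, ?_⟩
  · apply finrank_inf_Us_one g φ e h2 hE1
    intro _
    by_cases h : ∃ u ∈ Us g (g e) 1, u ∉ span K {g e - e}
    · exact Or.inl ⟨u1, hu1 h, hφu1⟩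
    · push Not at h
      exact (q3 g φ e hm hdet he hge hne h2 hE1 (fun u hu => h u hu)).elim
  · intro μ hμ1 _ hμ
    rw [hμ] at hμ1 ⊢
    by_cases h : ∃ u ∈ Us g (g e) (-1), u ∉ span K {g e - e}
    · exact Or.inl ⟨u3, hu3 (Ne.symm hμ1) h, hφu3⟩
    · push Not at h
      exact Or.inr (fun u hu => h u hu)

end wit

section step

variable {K V : Type*} [Field K] [AddCommGroup V] [Module K V] [FiniteDimensional K V]
  (g : Module.End K V)

/-- The step lemma: a suitable vector `e` and functional `φ` such that the Schur complement is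
again in the good class. -/
theorem step (f4 : Fin 4 ↪ K) (h5 : (1 : K) ≠ -1 → Nonempty (Fin 5 ↪ K))
    (hdet : LinearMap.det g = 1) (hns : ∀ μ : K, g ≠ μ • 1)
    (h2 : 2 ≤ finrank K (LinearMap.range (g - 1))) (c0 : V) (hc0 : c0 ≠ 0) (r0 : Dual K V)
    (hr0 : r0 ≠ 0) :
    ∃ (e : V) (φ : Dual K V) (_ : φ e = 1) (hge : φ (g e) = 1),
      φ c0 ≠ 0 ∧ r0 e ≠ 0 ∧ g e ≠ e ∧ (∃ w, φ w = 0 ∧ φ (g w) ≠ 0) ∧
      (3 ≤ finrank K V → (∀ μ : K, schur φ e g hge ≠ μ • 1) ∧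
        2 ≤ finrank K (LinearMap.range (schur φ e g hge - 1))) := by
  have h2' : 2 ≤ rk g 1 := by rw [rk, nm_one]; exact h2
  have hgee : ∀ e : V, (∀ μ : K, g e ≠ μ • e) → g e ≠ e := by
    intro e hne h
    apply hne 1
    rw [one_smul, h]
  have hφge : ∀ (φ : Dual K V) (e : V), φ (g e - e) = 0 → φ e = 1 → φ (g e) = 1 := by
    intro φ e h1 h3
    rw [map_sub, h3, sub_eq_zero] at h1
    exact h1
  by_cases hm3 : 3 ≤ finrank K V
  · obtain ⟨e, hr, hP2, hne, hE1, hE⟩ := esel g f4 hm3 hns h2' c0 r0 hr0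
    obtain ⟨hd0, hed, hcd⟩ := basic_d g e hne c0 hc0 hP2
    by_cases hm4 : 4 ≤ finrank K V
    · obtain ⟨x1, x2, hx1, hx2, hwit⟩ := wit4 g hm4 h2' e hne hE1
      obtain ⟨φ, hφd, he, hφc, hφ1, hφ2⟩ := fsel4 f4 (g e - e) e c0 x1 x2 hed hcd hx1 hx2
      have hge := hφge φ e hφd he
      obtain ⟨hz, hA, hB⟩ := hwit φ he hge hφ1 hφ2
      refine ⟨e, φ, he, hge, hφc, hr, hgee e hne, exists_w g φ e he hge hz, fun _ => ?_⟩
      exact step_finish g φ e he hge hm3 hdet hns hE hA (fun μ h1 h3 _ => hB μ h1 h3)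
    · have hm' : finrank K V = 3 := by omega
      obtain ⟨x1, x2, x3, hx1, hx2, hx3, hx3e, hwit⟩ := wit3 g hm' hdet h2' e hne hE1
      have hφ : ∃ φ : Dual K V, φ (g e - e) = 0 ∧ φ e = 1 ∧ φ c0 ≠ 0 ∧ φ x1 ≠ 0 ∧ φ x2 ≠ 0 ∧
          φ x3 ≠ 0 := by
        by_cases hchar : (1 : K) = -1
        · obtain ⟨φ, hφd, he, hφc, hφ1, hφ2⟩ := fsel4 f4 (g e - e) e c0 x1 x2 hed hcd hx1 hx2
          refine ⟨φ, hφd, he, hφc, hφ1, hφ2, ?_⟩
          rw [hx3e hchar, he]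
          exact one_ne_zero
        · obtain ⟨f5⟩ := h5 hchar
          exact fsel5 f5 (g e - e) e c0 x1 x2 x3 hed hcd hx1 hx2 hx3
      obtain ⟨φ, hφd, he, hφc, hφ1, hφ2, hφ3⟩ := hφ
      have hge := hφge φ e hφd he
      obtain ⟨hz, hA, hB⟩ := hwit φ he hge hφ1 hφ2 hφ3
      refine ⟨e, φ, he, hge, hφc, hr, hgee e hne, exists_w g φ e he hge hz, fun _ => ?_⟩
      exact step_finish g φ e he hge hm3 hdet hns hE hA (fun μ h1 h3 h4 => hB μ h1 h3 (h4 hm'))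
  · obtain ⟨e, hr, hP2, hne⟩ := esel0 g f4 hns h2' c0 r0 hr0
    obtain ⟨hd0, hed, hcd⟩ := basic_d g e hne c0 hc0 hP2
    obtain ⟨x, hx, hxd⟩ := exists_mem_notMem_span (LinearMap.range (g - 1)) (g e - e) h2
    obtain ⟨z, rfl⟩ := hx
    obtain ⟨φ, hφd, he, hφc, hφ1, -⟩ := fsel4 f4 (g e - e) e c0 ((g - 1) z) ((g - 1) z) hed hcd
      hxd hxd
    have hge := hφge φ e hφd he
    exact ⟨e, φ, he, hge, hφc, hr, hgee e hne, exists_w g φ e he hge ⟨z, hφ1⟩,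
      fun h => absurd h hm3⟩

end step

end Cfsg.Agent.Helper2.Lev
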