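import Mathlib
import Cfsg.Agent.Helper2.Lev.LevF

/-!
# Products of two regular unipotent matrices: the induction
-/

set_option autoImplicit false

namespace Cfsg.Agent.Helper2.Lev

open Module Submodule LinearMap

universe u v

/-- The main theorem on endomorphisms: a non-scalar `g` of determinant one with `g - 1` of rank
at least two is a product `a ∘ b` with `a - 1` and `b - 1` nilpotent, the range of `a - 1` a
hyperplane avoiding a given vector and the kernel of `b - 1` a line outside a given hyperplane. -/
theorem main_T {K : Type v} [Field K] (f4 : Fin 4 ↪ K)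
    (h5 : (1 : K) ≠ -1 → Nonempty (Fin 5 ↪ K)) :
    ∀ (m : ℕ) (V : Type u) [AddCommGroup V] [Module K V] [FiniteDimensional K V],
      finrank K V = m → ∀ g : Module.End K V, LinearMap.det g = 1 →
      (2 ≤ m → (∀ μ : K, g ≠ μ • 1) ∧ 2 ≤ finrank K (LinearMap.range (g - 1))) →
      ∀ c0 : V, c0 ≠ 0 → ∀ r0 : Dual K V, r0 ≠ 0 →
      ∃ a b : Module.End K V, g = a ∘ₗ b ∧ IsNilpotent (a - 1) ∧ IsNilpotent (b - 1) ∧
        (∃ φ : Dual K V, LinearMap.range (a - 1) = LinearMap.ker φ ∧ φ c0 ≠ 0) ∧
        (∃ e : V, LinearMap.ker (b - 1) = span K {e} ∧ r0 e ≠ 0) := by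
  intro m
  induction m with
  | zero =>
    intro V _ _ _ hV g _ _ c0 hc0
    exfalso
    have := Module.finrank_zero_iff.1 hV
    exact hc0 (Subsingleton.elim c0 0)
  | succ m ih =>
    intro V _ _ _ hV g hdet hG c0 hc0 r0 hr0
    by_cases hm : m = 0
    · subst hm
      have hg1 := eq_one_of_finrank_eq_one hV g hdet
      obtain ⟨φ, hφ⟩ : ∃ φ : Dual K V, φ c0 ≠ 0 := by
        by_contra hcon
        push Not at hcon
        exact hc0 ((Module.forall_dual_apply_eq_zero_iff K c0).1 hcon)
      obtain ⟨e, he⟩ : ∃ e : V, r0 e ≠ 0 := by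
        by_contra hcon
        push Not at hcon
        exact hr0 (LinearMap.ext hcon)
      refine ⟨1, 1, by rw [hg1]; rfl, by simp, by simp, ⟨φ, ?_, hφ⟩, ⟨e, ?_, he⟩⟩
      · have hφ0 : φ ≠ 0 := by
          rintro rfl
          exact hφ rfl
        have h1 := Module.Dual.finrank_ker_add_one_of_ne_zero hφ0
        have h2 : finrank K ↥(LinearMap.ker φ) = 0 := by omega
        rw [sub_self, LinearMap.range_zero, Submodule.finrank_eq_zero.1 h2]
      · have he0 : e ≠ 0 := by
          rintro rfl
          exact he (map_zero r0)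
        rw [sub_self, LinearMap.ker_zero]
        symm
        apply Submodule.eq_top_of_finrank_eq
        rw [finrank_span_singleton he0, hV]
    · obtain ⟨hns, h2⟩ := hG (by omega)
      obtain ⟨e, φ, he, hge, hφc, hr, hgee, ⟨w, hw0, hw⟩, hS⟩ :=
        step g f4 h5 hdet hns h2 c0 hc0 r0 hr0
      have hφ0 : φ ≠ 0 := by
        rintro rfl
        simp at he
      have hW : finrank K ↥(LinearMap.ker φ) = m := by
        have := Module.Dual.finrank_ker_add_one_of_ne_zero hφ0
        omega
      have hc : cvec φ e g he hge ≠ 0 := by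
        intro h
        apply hgee
        have := congrArg Subtype.val h
        exact sub_eq_zero.1 this
      have hrf : rfun φ g ≠ 0 := by
        intro h
        apply hw
        have := congrArg (fun f => f ⟨w, LinearMap.mem_ker.2 hw0⟩) h
        exact this
      obtain ⟨a', b', hab, ha', hb', ⟨φ', hφ', hφ'c⟩, ⟨e', he', hre'⟩⟩ :=
        ih ↥(LinearMap.ker φ) hW (schur φ e g hge) (by rw [det_schur φ e g he hge, hdet])
          (fun h => hS (by omega)) (cvec φ e g he hge) hc (rfun φ g) hrf
      refine ⟨1 + extA φ e he (cvec φ e g he hge) (a' - 1),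
        1 + extB φ e he (rfun φ g) (b' - 1), assembly φ e g he hge a' b' hab, ?_, ?_, ?_, ?_⟩
      · rw [add_sub_cancel_left]
        exact extA_isNilpotent φ e he _ _ ha'
      · rw [add_sub_cancel_left]
        exact extB_isNilpotent φ e he _ _ hb'
      · refine ⟨φ, ?_, hφc⟩
        rw [add_sub_cancel_left]
        exact range_extA φ e he _ _ φ' hφ' hφ'c
      · refine ⟨e, ?_, hr⟩
        rw [add_sub_cancel_left]
        exact ker_extB φ e he _ _ e' he' hre'

end Cfsg.Agent.Helper2.Lev
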