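import Mathlib
import Cfsg.Agent.Helper2.Lev.LevA

/-!
# Products of two regular unipotent matrices: Jordan chains
-/

set_option autoImplicit false

namespace Cfsg.Agent.Helper2.Lev

open Module Submodule LinearMap

section jordan

variable {K V : Type*} [Field K] [AddCommGroup V] [Module K V] [FiniteDimensional K V]

theorem finrank_ker_pow_le (N : Module.End K V) (hk : finrank K (LinearMap.ker N) = 1) (k : ℕ) :
    finrank K (LinearMap.ker (N ^ k)) ≤ k := by
  induction k with
  | zero =>
    have : LinearMap.ker (N ^ 0) = ⊥ := by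
      rw [pow_zero]
      exact LinearMap.ker_id
    rw [this, finrank_bot]
  | succ k ih =>
    have : LinearMap.ker (N ^ (k + 1)) = (LinearMap.ker (N ^ k)).comap N := by
      rw [pow_succ]
      rfl
    rw [this]
    have := finrank_comap_le N (LinearMap.ker (N ^ k))
    omega

theorem pow_finrank_eq_zero_of_isNilpotent (N : Module.End K V) (hN : IsNilpotent N) :
    N ^ finrank K V = 0 := by
  obtain ⟨k, hk⟩ := hN
  have h1 := Module.End.ker_pow_le_ker_pow_finrank N k
  rw [hk, LinearMap.ker_zero, top_le_iff] at h1
  exact LinearMap.ker_eq_top.1 h1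

/-- A nilpotent endomorphism with one-dimensional kernel has a Jordan basis. -/
theorem exists_jordan_basis {n : ℕ} (hn : finrank K V = n) (hn0 : 0 < n) (N : Module.End K V)
    (hN : IsNilpotent N) (hk : finrank K (LinearMap.ker N) = 1) :
    ∃ b : Basis (Fin n) K V, ∀ i : Fin n,
      N (b i) = if h : (i : ℕ) = 0 then 0 else b ⟨i - 1, by omega⟩ := by
  have hNn : N ^ n = 0 := by rw [← hn]; exact pow_finrank_eq_zero_of_isNilpotent N hN
  have hbig : ∀ k, n ≤ k → N ^ k = 0 := by
    intro k hk'
    obtain ⟨j, rfl⟩ := Nat.exists_eq_add_of_le hk'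
    rw [pow_add, hNn, zero_mul]
  obtain ⟨v, hv⟩ : ∃ v, (N ^ (n - 1)) v ≠ 0 := by
    by_contra hcon
    push Not at hcon
    have h0 : N ^ (n - 1) = 0 := LinearMap.ext hcon
    have h1 := finrank_ker_pow_le N hk (n - 1)
    rw [h0, LinearMap.ker_zero, finrank_top, hn] at h1
    omega
  have hli : LinearIndependent K (fun i : Fin n => (N ^ (n - 1 - (i : ℕ))) v) := by
    rw [Fintype.linearIndependent_iff]
    intro c hc
    have claim : ∀ p : ℕ, ∀ i : Fin n, n - 1 - (i : ℕ) = p → c i = 0 := by
      intro p
      induction p using Nat.strong_induction_on with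
      | _ p ihp =>
        intro i hi
        have h1 := congrArg (N ^ (i : ℕ)) hc
        rw [map_sum, map_zero] at h1
        rw [Finset.sum_eq_single i] at h1
        · rw [map_smul, ← Module.End.mul_apply, ← pow_add] at h1
          have h2 : (i : ℕ) + (n - 1 - (i : ℕ)) = n - 1 := by omega
          rw [h2] at h1
          exact (smul_eq_zero.1 h1).resolve_right hv
        · intro j _ hji
          rw [map_smul, ← Module.End.mul_apply, ← pow_add]
          by_cases hlt : (j : ℕ) < (i : ℕ)
          · rw [hbig _ (by omega)]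
            simp
          · have hgt : (i : ℕ) < (j : ℕ) := by
              have : (j : ℕ) ≠ (i : ℕ) := fun h => hji (Fin.ext h)
              omega
            rw [ihp (n - 1 - (j : ℕ)) (by omega) j rfl, zero_smul]
        · intro h
          exact absurd (Finset.mem_univ i) h
    intro i
    exact claim _ i rfl
  have : Nonempty (Fin n) := ⟨⟨0, hn0⟩⟩
  set b := basisOfLinearIndependentOfCardEqFinrank hli (by rw [Fintype.card_fin, hn]) with hb
  have hbi : ∀ i : Fin n, b i = (N ^ (n - 1 - (i : ℕ))) v := by
    intro i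
    rw [hb, coe_basisOfLinearIndependentOfCardEqFinrank]
  refine ⟨b, fun i => ?_⟩
  rw [hbi, ← Module.End.mul_apply, ← pow_succ']
  split_ifs with h
  · rw [hbig _ (by omega)]
    rfl
  · rw [hbi]
    have : n - 1 - (i : ℕ) + 1 = n - 1 - ((i : ℕ) - 1) := by omega
    rw [this]

omit [FiniteDimensional K V] in
/-- The matrix of `1 + N` in a Jordan basis. -/
theorem toMatrix_one_add_jordan {n : ℕ} (b : Basis (Fin n) K V) (N : Module.End K V)
    (hb : ∀ i : Fin n, N (b i) = if h : (i : ℕ) = 0 then 0 else b ⟨i - 1, by omega⟩)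
    (i j : Fin n) :
    LinearMap.toMatrix b b (1 + N) i j =
      if i = j then 1 else if (j : ℕ) = (i : ℕ) + 1 then 1 else 0 := by
  rw [LinearMap.toMatrix_apply, LinearMap.add_apply, Module.End.one_apply, hb j]
  by_cases hj : (j : ℕ) = 0
  · rw [dif_pos hj, add_zero, Basis.repr_self, Finsupp.single_apply]
    by_cases hij : i = j
    · rw [if_pos hij.symm, if_pos hij]
    · rw [if_neg (Ne.symm hij), if_neg hij, if_neg (by omega)]
  · rw [dif_neg hj, map_add, Basis.repr_self, Basis.repr_self, Finsupp.add_apply,
      Finsupp.single_apply, Finsupp.single_apply]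
    by_cases hij : i = j
    · rw [if_pos hij.symm, if_pos hij, if_neg, add_zero]
      intro h
      have := congrArg Fin.val h
      simp only at this
      rw [hij] at this
      omega
    · rw [if_neg (Ne.symm hij), if_neg hij, zero_add]
      by_cases hji : (j : ℕ) = (i : ℕ) + 1
      · rw [if_pos hji, if_pos]
        apply Fin.ext
        simp only
        omega
      · rw [if_neg hji, if_neg]
        intro h
        have := congrArg Fin.val h
        simp only at this
        omega

end jordan

section matrix

variable {K : Type*} [Field K]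

/-- A regular unipotent endomorphism of `K^n` has matrix conjugate to the Jordan block. -/
theorem exists_conj_jordan {n : ℕ} (hn0 : 0 < n) (J : Matrix (Fin n) (Fin n) K)
    (hJ : ∀ i j : Fin n, J i j = if i = j then 1 else if (j : ℕ) = (i : ℕ) + 1 then 1 else 0)
    (a : Module.End K (Fin n → K)) (ha : IsNilpotent (a - 1))
    (hk : finrank K (LinearMap.ker (a - 1)) = 1) :
    ∃ P Q : Matrix (Fin n) (Fin n) K, P * Q = 1 ∧ Q * P = 1 ∧
      LinearMap.toMatrix' a = P * J * Q := by
  have hfin : finrank K (Fin n → K) = n := by simp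
  obtain ⟨b, hb⟩ := exists_jordan_basis hfin hn0 (a - 1) ha hk
  have hJ' : LinearMap.toMatrix b b a = J := by
    ext i j
    have h1 : a = 1 + (a - 1) := by abel
    rw [h1, toMatrix_one_add_jordan b (a - 1) hb i j, hJ]
  have h2 := basis_toMatrix_mul_linearMap_toMatrix_mul_basis_toMatrix (Pi.basisFun K (Fin n))
    b (Pi.basisFun K (Fin n)) b a
  rw [hJ', LinearMap.toMatrix_eq_toMatrix'] at h2
  exact ⟨(Pi.basisFun K (Fin n)).toMatrix b, b.toMatrix (Pi.basisFun K (Fin n)),
    Basis.toMatrix_mul_toMatrix_flip _ _, Basis.toMatrix_mul_toMatrix_flip _ _, h2.symm⟩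

end matrix

end Cfsg.Agent.Helper2.Lev
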