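import Mathlib
import Cfsg.Agent.Helper2.Lev.LevG
import Cfsg.Agent.Helper2.Lev.LevH

/-!
# Products of two regular unipotent matrices: transvections and the final factorization
-/

set_option autoImplicit false

namespace Cfsg.Agent.Helper2.Lev

open Module Submodule LinearMap

universe u v

/-- A nilpotent endomorphism with prescribed kernel line and prescribed range hyperplane. -/
theorem exists_nilpotent {K : Type v} [Field K] :
    ∀ (n : ℕ) (V : Type u) [AddCommGroup V] [Module K V] [FiniteDimensional K V],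
      finrank K V = n + 1 → ∀ x : V, x ≠ 0 → ∀ ψ : Dual K V, ψ ≠ 0 → (1 ≤ n → ψ x = 0) →
      ∃ N : Module.End K V, IsNilpotent N ∧ LinearMap.ker N = span K {x} ∧
        LinearMap.range N = LinearMap.ker ψ := by
  intro n
  induction n with
  | zero =>
    intro V _ _ _ hV x hx ψ hψ _
    refine ⟨0, IsNilpotent.zero, ?_, ?_⟩
    · rw [LinearMap.ker_zero]
      symm
      apply Submodule.eq_top_of_finrank_eq
      rw [finrank_span_singleton hx, hV]
    · rw [LinearMap.range_zero]
      symm
      have := Module.Dual.finrank_ker_add_one_of_ne_zero hψ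
      exact Submodule.finrank_eq_zero.1 (by omega)
  | succ n ih =>
    intro V _ _ _ hV x hx ψ hψ hψx
    have hψx := hψx (by omega)
    obtain ⟨y, hy⟩ : ∃ y, ψ y = 1 := by
      obtain ⟨y0, hy0⟩ : ∃ y0, ψ y0 ≠ 0 := by
        by_contra h
        push Not at h
        exact hψ (LinearMap.ext h)
      exact ⟨(ψ y0)⁻¹ • y0, by rw [map_smul, smul_eq_mul, inv_mul_cancel₀ hy0]⟩
    have hW : finrank K ↥(LinearMap.ker ψ) = n + 1 := by
      have := Module.Dual.finrank_ker_add_one_of_ne_zero hψ
      omega
    set x' : ↥(LinearMap.ker ψ) := ⟨x, LinearMap.mem_ker.2 hψx⟩ with hx'def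
    have hx' : x' ≠ 0 := fun h => hx (congrArg Subtype.val h)
    obtain ⟨ψ', hψ'0, hψ'x⟩ : ∃ ψ' : Dual K ↥(LinearMap.ker ψ), ψ' ≠ 0 ∧
        (1 ≤ n → ψ' x' = 0) := by
      by_cases hn : 1 ≤ n
      · have hlt : span K {x'} < ⊤ := by
          rw [lt_top_iff_ne_top]
          intro h
          have := finrank_span_singleton (K := K) hx'
          rw [h, finrank_top, hW] at this
          omega
        obtain ⟨f, hf0, hf⟩ := Submodule.exists_le_ker_of_lt_top _ hlt
        exact ⟨f, hf0, fun _ => hf (Submodule.mem_span_singleton_self x')⟩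
      · obtain ⟨f, hf⟩ : ∃ f : Dual K ↥(LinearMap.ker ψ), f x' ≠ 0 := by
          by_contra h
          push Not at h
          exact hx' ((Module.forall_dual_apply_eq_zero_iff K x').1 h)
        exact ⟨f, fun h => hf (by rw [h]; rfl), fun h => absurd h hn⟩
    obtain ⟨N', hN', hkN', hrN'⟩ := ih ↥(LinearMap.ker ψ) hW x' hx' ψ' hψ'0 hψ'x
    obtain ⟨c, hc⟩ : ∃ c, ψ' c ≠ 0 := by
      by_contra h
      push Not at h
      exact hψ'0 (LinearMap.ext h)
    refine ⟨extA ψ y hy c N', extA_isNilpotent ψ y hy c N' hN', ?_,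
      range_extA ψ y hy c N' ψ' hrN' hc⟩
    rw [ker_extA ψ y hy c N' ψ' (le_of_eq hrN') hc, hkN', Submodule.map_span, Set.image_singleton]
    rfl

section transvection

variable {K : Type v} [Field K] {V : Type u} [AddCommGroup V] [Module K V]
  [FiniteDimensional K V]

/-- A transvection in dimension at least three is a product of two regular unipotent maps. -/
theorem transvection_factor (hV : 3 ≤ finrank K V) (x : V) (hx : x ≠ 0) (ψ : Dual K V)
    (hψ : ψ ≠ 0) (hψx : ψ x = 0) :
    ∃ a b : Module.End K V, (1 + ψ.smulRight x : Module.End K V) = a ∘ₗ b ∧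
      IsNilpotent (a - 1) ∧ finrank K (LinearMap.ker (a - 1)) = 1 ∧
      IsNilpotent (b - 1) ∧ finrank K (LinearMap.ker (b - 1)) = 1 := by
  obtain ⟨n, hn⟩ : ∃ n, finrank K V = n + 1 := ⟨finrank K V - 1, by omega⟩
  obtain ⟨N, hN, hkN, hrN⟩ := exists_nilpotent n V hn x hx ψ hψ (fun _ => hψx)
  set T : Module.End K V := ψ.smulRight x with hT
  have hTv : ∀ v, T v = ψ v • x := fun v => rfl
  have hNx : N x = 0 := by
    have : x ∈ LinearMap.ker N := by rw [hkN]; exact Submodule.mem_span_singleton_self x
    exact LinearMap.mem_ker.1 this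
  have hψN : ∀ v, ψ (N v) = 0 := by
    intro v
    have : N v ∈ LinearMap.ker ψ := by rw [← hrN]; exact LinearMap.mem_range_self N v
    exact LinearMap.mem_ker.1 this
  have hTN : T * N = 0 := by
    ext v
    rw [Module.End.mul_apply, hTv, hψN, zero_smul]; rfl
  have hNT : N * T = 0 := by
    ext v
    rw [Module.End.mul_apply, hTv, map_smul, hNx, smul_zero]; rfl
  have hTT : T * T = 0 := by
    ext v
    rw [Module.End.mul_apply, hTv, hTv, map_smul, hψx, smul_eq_mul, mul_zero, zero_smul]; rfl
  have hTnil : IsNilpotent T := ⟨2, by rw [pow_two, hTT]⟩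
  have hcomm : Commute T N := by
    rw [Commute, SemiconjBy, hTN, hNT]
  have hR : IsNilpotent (T - N) := Commute.isNilpotent_sub hcomm hTnil hN
  have hkN1 : finrank K (LinearMap.ker N) = 1 := by rw [hkN, finrank_span_singleton hx]
  -- a preimage of `x` inside the range of `N`
  obtain ⟨h', hh', hNh'⟩ : ∃ h' : V, ψ h' = 0 ∧ N h' = x := by
    have hN2 : N ^ 2 ≠ 0 := by
      intro h0
      have h1 := finrank_ker_pow_le N hkN1 2
      rw [h0, LinearMap.ker_zero, finrank_top] at h1
      omega
    obtain ⟨h0, hh0⟩ : ∃ h0, (N ^ 2) h0 ≠ 0 := by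
      by_contra hcon
      push Not at hcon
      exact hN2 (LinearMap.ext hcon)
    have hex : ∃ j, (N ^ j) h0 = 0 := by
      obtain ⟨k, hk⟩ := hN
      exact ⟨k, by rw [hk]; rfl⟩
    classical
    set j0 := Nat.find hex with hj0
    have hj0spec : (N ^ j0) h0 = 0 := Nat.find_spec hex
    have hj0min : ∀ j, j < j0 → (N ^ j) h0 ≠ 0 := fun j hj => Nat.find_min hex hj
    have hj3 : 3 ≤ j0 := by
      by_contra hlt
      have hle : j0 ≤ 2 := by omega
      apply hh0
      obtain ⟨i, hi⟩ := Nat.exists_eq_add_of_le hle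
      rw [hi, add_comm, pow_add, Module.End.mul_apply, hj0spec, map_zero]
    obtain ⟨k, hk⟩ : ∃ k, j0 = k + 3 := ⟨j0 - 3, by omega⟩
    have h1 : (N ^ (k + 2)) h0 ≠ 0 := hj0min _ (by omega)
    have h2 : N ((N ^ (k + 2)) h0) = 0 := by
      rw [← Module.End.mul_apply, ← pow_succ', ← hk]
      exact hj0spec
    have h3 : (N ^ (k + 2)) h0 ∈ span K {x} := by
      rw [← hkN]
      exact LinearMap.mem_ker.2 h2
    obtain ⟨s, hs⟩ := Submodule.mem_span_singleton.1 h3
    have hs0 : s ≠ 0 := by
      rintro rfl
      rw [zero_smul] at hs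
      exact h1 hs.symm
    refine ⟨s⁻¹ • (N ^ (k + 1)) h0, ?_, ?_⟩
    · rw [map_smul, pow_succ', Module.End.mul_apply, hψN, smul_zero]
    · rw [map_smul, ← Module.End.mul_apply, ← pow_succ', ← hs, smul_smul, inv_mul_cancel₀ hs0,
        one_smul]
  have hkR : LinearMap.ker (T - N) = span K {x} := by
    ext v
    rw [LinearMap.mem_ker, LinearMap.sub_apply, hTv, Submodule.mem_span_singleton]
    constructor
    · intro hv
      have hv' : N v = ψ v • x := (sub_eq_zero.1 hv).symm
      have h1 : v - ψ v • h' ∈ span K {x} := by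
        rw [← hkN, LinearMap.mem_ker, map_sub, map_smul, hNh', hv', sub_self]
      have h2 : ψ (v - ψ v • h') = 0 := by
        obtain ⟨t, ht⟩ := Submodule.mem_span_singleton.1 h1
        rw [← ht, map_smul, hψx, smul_zero]
      rw [map_sub, map_smul, hh', smul_zero, sub_zero] at h2
      rw [h2, zero_smul] at hv'
      have h3 : v ∈ span K {x} := by
        rw [← hkN]
        exact LinearMap.mem_ker.2 hv'
      exact Submodule.mem_span_singleton.1 h3
    · rintro ⟨t, rfl⟩
      rw [map_smul, map_smul, hψx, hNx, smul_zero, smul_zero, zero_smul, sub_zero]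
  obtain ⟨w, hw⟩ := hN.isUnit_one_add
  have hcw : Commute (w : Module.End K V) (T - N) := by
    rw [hw]
    exact (Commute.one_left _).add_left
      ((hcomm.symm).sub_right (Commute.refl N))
  have hcw' : Commute ((w⁻¹ : (Module.End K V)ˣ) : Module.End K V) (T - N) :=
    Commute.units_inv_left hcw
  have hb1 : ((w⁻¹ : (Module.End K V)ˣ) : Module.End K V) * (1 + T) - 1 =
      ((w⁻¹ : (Module.End K V)ˣ) : Module.End K V) * (T - N) := by
    have h1 : T - N = (1 + T) - (w : Module.End K V) := by rw [hw]; abel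
    rw [h1, mul_sub, Units.inv_mul]
  refine ⟨1 + N, ((w⁻¹ : (Module.End K V)ˣ) : Module.End K V) * (1 + T), ?_, ?_, ?_, ?_, ?_⟩
  · rw [← hw, ← Module.End.mul_eq_comp, Units.mul_inv_cancel_left]
  · rw [add_sub_cancel_left]
    exact hN
  · rw [add_sub_cancel_left]
    exact hkN1
  · rw [hb1]
    exact Commute.isNilpotent_mul_left hcw' hR
  · rw [hb1]
    have : LinearMap.ker (((w⁻¹ : (Module.End K V)ˣ) : Module.End K V) * (T - N)) =
        LinearMap.ker (T - N) := by
      ext v
      rw [LinearMap.mem_ker, LinearMap.mem_ker, Module.End.mul_apply]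
      constructor
      · intro h
        have := congrArg (w : Module.End K V) h
        rw [← Module.End.mul_apply, Units.mul_inv, map_zero] at this
        exact this
      · intro h
        rw [h, map_zero]
    rw [this, hkR, finrank_span_singleton hx]

/-- Every non-scalar endomorphism of determinant one of a space of dimension at least three over a
field with at least four elements is a product of two regular unipotent endomorphisms. -/
theorem exists_regular_factorization (f4 : Fin 4 ↪ K)
    (h5 : (1 : K) ≠ -1 → Nonempty (Fin 5 ↪ K)) (hV : 3 ≤ finrank K V) (g : Module.End K V)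
    (hdet : LinearMap.det g = 1) (hns : ∀ μ : K, g ≠ μ • 1) :
    ∃ a b : Module.End K V, g = a ∘ₗ b ∧
      IsNilpotent (a - 1) ∧ finrank K (LinearMap.ker (a - 1)) = 1 ∧
      IsNilpotent (b - 1) ∧ finrank K (LinearMap.ker (b - 1)) = 1 := by
  by_cases h2 : 2 ≤ finrank K (LinearMap.range (g - 1))
  · obtain ⟨c0, hc0⟩ : ∃ c0 : V, c0 ≠ 0 := by
      have : 0 < finrank K V := by omega
      exact Module.finrank_pos_iff_exists_ne_zero.1 this
    obtain ⟨r0, hr0⟩ : ∃ r0 : Dual K V, r0 c0 ≠ 0 := by
      by_contra h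
      push Not at h
      exact hc0 ((Module.forall_dual_apply_eq_zero_iff K c0).1 h)
    have hr0' : r0 ≠ 0 := by
      rintro rfl
      exact hr0 rfl
    obtain ⟨a, b, hab, ha, hb, ⟨φ, hφ, hφc⟩, ⟨e, he, hre⟩⟩ :=
      main_T f4 h5 (finrank K V) V rfl g hdet (fun _ => ⟨hns, h2⟩) c0 hc0 r0 hr0'
    refine ⟨a, b, hab, ha, ?_, hb, ?_⟩
    · have h1 := LinearMap.finrank_range_add_finrank_ker (a - 1)
      rw [hφ] at h1
      have hφ0 : φ ≠ 0 := by
        rintro rfl
        exact hφc rfl
      have := Module.Dual.finrank_ker_add_one_of_ne_zero hφ0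
      omega
    · have he0 : e ≠ 0 := by
        rintro rfl
        exact hre (map_zero r0)
      rw [he, finrank_span_singleton he0]
  · have hD : g - 1 ≠ 0 := by
      intro h
      apply hns 1
      rw [one_smul]
      exact sub_eq_zero.1 h
    obtain ⟨v0, hv0⟩ : ∃ v0, (g - 1) v0 ≠ 0 := by
      by_contra hcon
      push Not at hcon
      exact hD (LinearMap.ext hcon)
    set x := (g - 1) v0 with hx
    have hrange : span K {x} = LinearMap.range (g - 1) := by
      apply Submodule.eq_of_le_of_finrank_le
      · rw [Submodule.span_singleton_le_iff_mem]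
        exact LinearMap.mem_range_self _ v0
      · rw [finrank_span_singleton hv0]
        omega
    obtain ⟨χ, hχ⟩ : ∃ χ : Dual K V, χ x = 1 := by
      obtain ⟨f, hf⟩ : ∃ f : Dual K V, f x ≠ 0 := by
        by_contra h
        push Not at h
        exact hv0 ((Module.forall_dual_apply_eq_zero_iff K x).1 h)
      exact ⟨(f x)⁻¹ • f, by rw [LinearMap.smul_apply, smul_eq_mul, inv_mul_cancel₀ hf]⟩
    set ψ : Dual K V := χ ∘ₗ (g - 1) with hψ
    have hDv : ∀ v, (g - 1) v = ψ v • x := by
      intro v
      have h1 : (g - 1) v ∈ span K {x} := by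
        rw [hrange]
        exact LinearMap.mem_range_self _ v
      obtain ⟨t, ht⟩ := Submodule.mem_span_singleton.1 h1
      rw [hψ, LinearMap.comp_apply, ← ht, map_smul, hχ, smul_eq_mul, mul_one]
    have hg : g = 1 + ψ.smulRight x := by
      ext v
      have := hDv v
      rw [LinearMap.sub_apply, Module.End.one_apply] at this
      rw [LinearMap.add_apply, Module.End.one_apply, LinearMap.smulRight_apply, ← this]
      abel
    have hψx : ψ x = 0 := by
      have h1 := LinearMap.transvection.det ψ x
      have h3 : LinearMap.transvection ψ x = g := by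
        rw [hg]
        ext v
        rw [LinearMap.transvection.apply, LinearMap.add_apply, Module.End.one_apply,
          LinearMap.smulRight_apply]
      rw [h3, hdet] at h1
      have : (1 : K) = 1 + ψ x := h1
      linear_combination -this
    have hψ0 : ψ ≠ 0 := by
      intro h
      apply hv0
      rw [hx, hDv v0, h]
      simp
    obtain ⟨a, b, hab, rest⟩ := transvection_factor hV x hv0 ψ hψ0 hψx
    exact ⟨a, b, by rw [hg]; exact hab, rest⟩

end transvection

end Cfsg.Agent.Helper2.Lev
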